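import Groth.Agent.IntTh.Inum
import Groth.Agent.HilbPoly.AmpleVanish
import Groth.Agent.CohFinite.Devissage
import Mathlib.Analysis.SpecialFunctions.Choose

/-!
# `h⁰` in short exact sequences; growth of `χ(F ⊗ A^p)`
-/

universe u

open CategoryTheory CategoryTheory.Limits AlgebraicGeometry Opposite TopologicalSpace Filter

set_option backward.isDefEq.respectTransparency false
set_option maxHeartbeats 800000

namespace Groth.Agent.IntTh

open InvBasic ProjUniv Groth.Agent.InvPow Groth.Agent.QCohLib Groth.Agent.HilbPoly Groth.Agent.CohFinite Groth.Agent.CohVanish Groth.Agent.CechCmp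

variable (k : Type u) [Field k] {X : Scheme.{u}} [X.Over (Spec (CommRingCat.of k))]
  [IsProper (X ↘ Spec (CommRingCat.of k))]

/-- `h⁰` is left exact. -/
theorem hdim_zero_le {S : ShortComplex X.Modules} (hS : S.ShortExact) (h₂ : Coh.IsCoh S.X₂)
    (h₁ : Coh.IsCoh S.X₁) (h₃ : Coh.IsCoh S.X₃) :
    hdim k X S.X₁ 0 ≤ hdim k X S.X₂ 0 ∧ hdim k X S.X₂ 0 ≤ hdim k X S.X₁ 0 + hdim k X S.X₃ 0 := by
  let φ := Coh.toGlobal (X ↘ Spec (CommRingCat.of k))
  let T := modSES φ S hS
  let f := mapHMod T.f ⊤ 0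
  let g := mapHMod T.g ⊤ 0
  have fin : ∀ {M : X.Modules}, Coh.IsCoh M → Module.Finite k (HMod (modRSh φ M) ⊤ 0) :=
    fun hM => allFin_of_isProper (X ↘ Spec (CommRingCat.of k)) _ hM 0
  have hd : ∀ M : X.Modules, hdim k X M 0 = Module.finrank k (HMod (modRSh φ M) ⊤ 0) := fun M => by
    unfold HilbPoly.hdim
    rw [(hhEquiv M 0).finrank_eq]
  have : Module.Finite k (HMod T.X₁ ⊤ 0) := fin h₁
  have : Module.Finite k (HMod T.X₂ ⊤ 0) := fin h₂
  have : Module.Finite k (HMod T.X₃ ⊤ 0) := fin h₃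
  have hinj : Function.Injective f := eMap_injective_of_mono T.shortExact.mono_f ⊤
  have e1 : LinearMap.ker g = LinearMap.range f := by
    ext x
    refine ⟨fun hx => (eMap_g_eq_zero_iff (S := T.sc) T.shortExact ⊤ 0 x).1 hx, ?_⟩
    rintro ⟨y, rfl⟩
    exact (eMap_g_eq_zero_iff (S := T.sc) T.shortExact ⊤ 0 _).2 ⟨y, rfl⟩
  rw [hd, hd, hd]
  refine ⟨by exact_mod_cast LinearMap.finrank_le_finrank_of_injective hinj, ?_⟩
  have r := g.finrank_range_add_finrank_ker
  rw [e1, LinearMap.finrank_range_of_inj hinj] at r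
  have := Submodule.finrank_le (LinearMap.range g)
  change (Module.finrank k (HMod T.X₂ ⊤ 0) : ℤ) ≤ (Module.finrank k (HMod T.X₁ ⊤ 0) : ℤ) + Module.finrank k (HMod T.X₃ ⊤ 0)
  omega

include k in
/-- `χ(F ⊗ A^p)` in the binomial basis. -/
theorem euler_pow_eq_sum {A : X.Modules} (hA : PicF.IsInvertible A) (r : ℕ) : ∀ (p : ℕ) {G : X.Modules},
    Coh.IsCoh G → topologicalKrullDim (CohB1.support G) ≤ (r : WithBot ℕ∞) →
    Curv2.euler k X (CohB1.tensorMod G (CohB1.tensorPow A p)) =
      ∑ i ∈ Finset.range (r + 1), (p.choose i : ℤ) * inum k (List.replicate i A) G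
  | 0, G, _, _ => by
    rw [Finset.sum_range_succ', Finset.sum_eq_zero fun i _ => by simp]
    simp [inum]
    exact euler_congr (k := k) (SecTwist.unitorR G)
  | p + 1, G, hG, hd => by
    have : IsLocallyNoetherian X := LocallyOfFiniteType.isLocallyNoetherian (X ↘ Spec (CommRingCat.of k))
    have hGA := HilbPoly.isCoh_tensorMod hG hA
    have hdA : topologicalKrullDim (CohB1.support (CohB1.tensorMod G A)) ≤ (r : WithBot ℕ∞) := by
      rw [HilbPoly.support_tensorMod G hA]
      exact hd
    have hAp := isInvertible_tensorPow hA p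
    obtain ⟨a⟩ := nonempty_assoc G hA hAp
    obtain ⟨c⟩ := ProjTwist.nonempty_tensorMod_comm (CohB1.tensorPow A p) A
    rw [show CohB1.tensorPow A (p + 1) = CohB1.tensorMod (CohB1.tensorPow A p) A from rfl,
      euler_congr ((ProjTwist.nonempty_tensorMod_iso (Iso.refl G) c).some ≪≫ a),
      euler_pow_eq_sum hA r p hGA hdA]
    have hu : ∀ i, inum k (List.replicate i A) (CohB1.tensorMod G A) =
        inum k (List.replicate i A) G + inum k (List.replicate (i + 1) A) G := fun i => by
      rw [List.replicate_succ, inum]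
      ring
    have htop : inum k (List.replicate (r + 1) A) G = 0 := inum_eq_zero_of_dim k (Inv.replicate hA _) hG
      (hd.trans_lt (by rw [List.length_replicate]; exact_mod_cast Nat.lt_succ_self r))
    simp only [hu, mul_add, Finset.sum_add_distrib]
    rw [Finset.sum_range_succ' (fun i => ((p + 1).choose i : ℤ) * inum k (List.replicate i A) G),
      Finset.sum_range_succ' (fun i => (p.choose i : ℤ) * inum k (List.replicate i A) G),
      Finset.sum_range_succ (fun i => (p.choose i : ℤ) * inum k (List.replicate (i + 1) A) G), htop]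
    simp only [Nat.choose_succ_succ', Nat.cast_add, add_mul, Finset.sum_add_distrib, Nat.choose_zero_right]
    ring

theorem tendsto_choose_div (i n : ℕ) (h : i ≤ n) :
    Tendsto (fun p : ℕ => (p.choose i : ℝ) / (p : ℝ) ^ n) atTop
      (nhds (if i = n then 1 / (n.factorial : ℝ) else 0)) := by
  have h2 : Tendsto (fun p : ℕ => (p : ℝ) ^ i / (i.factorial : ℝ) / (p : ℝ) ^ n) atTop
      (nhds (if i = n then 1 / (n.factorial : ℝ) else 0)) := by
    split_ifs with hin
    · subst hin
      refine (tendsto_congr' ?_).mpr tendsto_const_nhds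
      filter_upwards [eventually_gt_atTop 0] with p hp
      have : (p : ℝ) ≠ 0 := by exact_mod_cast hp.ne'
      field_simp
    · have hlt : i < n := lt_of_le_of_ne h hin
      have h3 := (tendsto_pow_div_pow_atTop_zero (𝕜 := ℝ) hlt).comp tendsto_natCast_atTop_atTop
      have h4 := h3.div_const (i.factorial : ℝ)
      rw [zero_div] at h4
      exact h4.congr fun p => by simp only [Function.comp]; ring
  exact (Asymptotics.IsEquivalent.div (isEquivalent_choose i) Asymptotics.IsEquivalent.refl).symm.tendsto_nhds h2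

/-- Asymptotics of `χ(F ⊗ A^p)`. -/
theorem tendsto_euler_pow {A : X.Modules} (hA : PicF.IsInvertible A) {G : X.Modules} (hG : Coh.IsCoh G) {r : ℕ}
    (hd : topologicalKrullDim (CohB1.support G) ≤ (r : WithBot ℕ∞)) :
    Tendsto (fun p : ℕ => (Curv2.euler k X (CohB1.tensorMod G (CohB1.tensorPow A p)) : ℝ) / (p : ℝ) ^ r) atTop
      (nhds ((inum k (List.replicate r A) G : ℝ) / (r.factorial : ℝ))) := by
  have h : ∀ p : ℕ, (Curv2.euler k X (CohB1.tensorMod G (CohB1.tensorPow A p)) : ℝ) / (p : ℝ) ^ r =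
      ∑ i ∈ Finset.range (r + 1), (inum k (List.replicate i A) G : ℝ) * ((p.choose i : ℝ) / (p : ℝ) ^ r) := fun p => by
    rw [euler_pow_eq_sum k hA r p hG hd]
    push_cast
    rw [Finset.sum_div]
    exact Finset.sum_congr rfl fun i _ => by ring
  simp only [h]
  have := tendsto_finsetSum (Finset.range (r + 1)) fun i hi =>
    (tendsto_choose_div i r (Nat.lt_succ_iff.mp (Finset.mem_range.mp hi))).const_mul
      (inum k (List.replicate i A) G : ℝ)
  convert this using 2
  simp [mul_ite, div_eq_mul_inv]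

include k in
/-- For high twists by an ample module the Euler characteristic is `h⁰`. -/
theorem exists_euler_eq_hdim {A : X.Modules} (hA : CohB1.IsAmple A) {G : X.Modules} (hG : Coh.IsCoh G) :
    ∃ p₀ : ℕ, ∀ p, p₀ ≤ p → Curv2.euler k X (CohB1.tensorMod G (CohB1.tensorPow A p)) =
      hdim k X (CohB1.tensorMod G (CohB1.tensorPow A p)) 0 := by
  obtain ⟨p₀, h⟩ := exists_vanishing_ample (X ↘ Spec (CommRingCat.of k)) hA G hG
  refine ⟨p₀, fun p hp => ?_⟩
  rw [euler_eq_sum (N := 1) fun n hn => h p hp n hn]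
  simp

/-- Asymptotics of `h⁰(F ⊗ A^p)` for `A` ample. -/
theorem tendsto_hdim_pow {A : X.Modules} (hA : CohB1.IsAmple A) {G : X.Modules} (hG : Coh.IsCoh G) {r : ℕ}
    (hd : topologicalKrullDim (CohB1.support G) ≤ (r : WithBot ℕ∞)) :
    Tendsto (fun p : ℕ => (hdim k X (CohB1.tensorMod G (CohB1.tensorPow A p)) 0 : ℝ) / (p : ℝ) ^ r) atTop
      (nhds ((inum k (List.replicate r A) G : ℝ) / (r.factorial : ℝ))) := by
  obtain ⟨p₀, h⟩ := exists_euler_eq_hdim k hA hG
  refine (tendsto_congr' ?_).mp (tendsto_euler_pow k hA.1 hG hd)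
  filter_upwards [eventually_ge_atTop p₀] with p hp
  rw [h p hp]

end Groth.Agent.IntTh
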