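import Groth.Agent.IntTh.Nakai
import Mathlib.Topology.Order.IntermediateValue
import Mathlib.Topology.Instances.Real.Lemmas

/-!
# Kleiman's theorem on a scheme with an ample module: mixed intersection numbers of a nef module are non-negative
-/

universe u

open CategoryTheory CategoryTheory.Limits AlgebraicGeometry Opposite TopologicalSpace

set_option backward.isDefEq.respectTransparency false
set_option maxHeartbeats 1600000

namespace Groth.Agent.IntTh

open InvBasic ProjUniv Groth.Agent.InvPow Groth.Agent.QCohLib Groth.Agent.HilbPoly Groth.Agent.CurveDeg Groth.Agent.CohFinite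

/-- `(L + tA)^n · L^i · A^j` from the monomial intersection numbers `I i j = L^i · A^j`. -/
noncomputable def mixed (I : ℕ → ℕ → ℝ) : ℕ → ℕ → ℕ → ℝ → ℝ
  | 0, i, j, _ => I i j
  | n + 1, i, j, t => mixed I n (i + 1) j t + t * mixed I n i (j + 1) t

theorem continuous_mixed (I : ℕ → ℕ → ℝ) : ∀ n i j, Continuous (mixed I n i j)
  | 0, _, _ => continuous_const
  | n + 1, i, j => (continuous_mixed I n (i + 1) j).add (continuous_id.mul (continuous_mixed I n i (j + 1)))

theorem mixed_zero (I : ℕ → ℕ → ℝ) : ∀ n i j, mixed I n i j 0 = I (i + n) j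
  | 0, _, _ => rfl
  | n + 1, i, j => by
    rw [mixed, mixed_zero I n (i + 1) j, zero_mul, add_zero, show i + 1 + n = i + (n + 1) by omega]

variable {I : ℕ → ℕ → ℝ} {d : ℕ} (hI : ∀ i j, 0 < j → i + j = d → 0 ≤ I i j)

include hI

theorem mixed_nonneg : ∀ n i j, 0 < j → n + i + j = d → ∀ t : ℝ, 0 ≤ t → 0 ≤ mixed I n i j t
  | 0, i, j, hj, h, _, _ => hI i j hj (by omega)
  | n + 1, i, j, hj, h, t, ht => add_nonneg (mixed_nonneg n (i + 1) j hj (by omega) t ht)
      (mul_nonneg ht (mixed_nonneg n i (j + 1) j.succ_pos (by omega) t ht))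

theorem pow_le_mixed : ∀ n j, 0 < j → n + j = d → ∀ t : ℝ, 0 ≤ t → t ^ n * I 0 d ≤ mixed I n 0 j t
  | 0, j, _, h, _, _ => by rw [pow_zero, one_mul, ← h, Nat.zero_add]; rfl
  | n + 1, j, hj, h, t, ht => by
    have h1 := mul_le_mul_of_nonneg_left (pow_le_mixed n (j + 1) j.succ_pos (by omega) t ht) ht
    have h2 := mixed_nonneg hI n 1 j hj (by omega) t ht
    rw [pow_succ, show t ^ n * t * I 0 d = t * (t ^ n * I 0 d) by ring, mixed]
    linarith

theorem le_mixed : ∀ n i, n + i = d → ∀ t : ℝ, 0 ≤ t → I (n + i) 0 ≤ mixed I n i 0 t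
  | 0, i, _, _, _ => by rw [Nat.zero_add]; rfl
  | n + 1, i, h, t, ht => by
    have h1 := le_mixed n (i + 1) (by omega) t ht
    have h2 := mul_nonneg ht (mixed_nonneg hI n i 1 one_pos (by omega) t ht)
    rw [mixed, show n + 1 + i = n + (i + 1) by omega]
    linarith

/-- Lower bound for `(L + tA)^d`. -/
theorem le_mixed_top {m : ℕ} (hm : m + 1 = d) {t : ℝ} (ht : 0 ≤ t) :
    mixed I m 1 0 t + t ^ d * I 0 d ≤ mixed I d 0 0 t := by
  have h1 := mul_le_mul_of_nonneg_left (pow_le_mixed hI m 1 one_pos hm t ht) ht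
  have hd : mixed I d 0 0 t = mixed I m 1 0 t + t * mixed I m 0 1 t := by rw [← hm]; rfl
  rw [hd, show t ^ d = t * t ^ m by rw [← hm, pow_succ']]
  linarith

/-- The real-variable step: no zero of `(L + tA)^d` for `t > 0`. -/
theorem mixed_top_pos (hd : 0 < d) (h0 : 0 < I 0 d)
    (key : ∀ a b : ℕ, 0 < a → 0 < b → 0 < mixed I d 0 0 ((b : ℝ) / a) →
      ((b : ℝ) / a) ^ d * I 0 d ≤ mixed I d 0 0 ((b : ℝ) / a)) :
    0 ≤ I d 0 := by
  obtain ⟨m, hm⟩ : ∃ m, m + 1 = d := ⟨d - 1, by omega⟩
  let P : ℝ → ℝ := mixed I d 0 0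
  have hP : Continuous P := continuous_mixed I d 0 0
  suffices hpos : ∀ s : ℝ, 0 < s → 0 < P s by
    have hlim : Filter.Tendsto P (nhdsWithin 0 (Set.Ioi 0)) (nhds (P 0)) := hP.continuousWithinAt
    have := ge_of_tendsto hlim (eventually_nhdsWithin_of_forall fun s hs => (hpos s hs).le)
    rwa [show P 0 = I d 0 by rw [show P 0 = mixed I d 0 0 0 from rfl, mixed_zero, Nat.zero_add]] at this
  by_contra hc
  push Not at hc
  obtain ⟨s, hs, hPs⟩ := hc
  -- above `T` the function is positive
  let c := I d 0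
  let T : ℝ := max (max 1 s) (|c| / I 0 d + 1)
  have hbig : ∀ t, T ≤ t → 0 < P t := fun t ht => by
    have ht1 : 1 ≤ t := (le_max_left _ _).trans ((le_max_left _ _).trans ht)
    have ht0 : 0 ≤ t := zero_le_one.trans ht1
    have h1 := le_mixed_top hI hm ht0
    have h2 := le_mixed hI m 1 hm t ht0
    rw [hm] at h2
    have h3 : t ≤ t ^ d := le_self_pow₀ ht1 (by omega)
    have h4 : |c| / I 0 d + 1 ≤ t := (le_max_right _ _).trans ht
    have h5 : |c| + I 0 d ≤ t ^ d * I 0 d := by
      have := mul_le_mul_of_nonneg_right (h4.trans h3) h0.le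
      rwa [add_mul, div_mul_cancel₀ _ h0.ne', one_mul] at this
    have h6 := neg_abs_le c
    show 0 < mixed I d 0 0 t
    linarith
  let S : Set ℝ := {t | P t ≤ 0} ∩ Set.Icc s T
  have hSc : IsCompact S := (isCompact_Icc).inter_left (isClosed_le hP continuous_const)
  have hSne : S.Nonempty := ⟨s, hPs, le_rfl, (le_max_right 1 s).trans (le_max_left _ _)⟩
  obtain ⟨t₀, ht₀, hmax⟩ := hSc.exists_isGreatest hSne
  have ht0pos : 0 < t₀ := hs.trans_le ht₀.2.1
  have habove : ∀ t, t₀ < t → 0 < P t := fun t ht => by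
    by_contra hn
    push Not at hn
    by_cases htT : t ≤ T
    · exact absurd (hmax ⟨hn, ht₀.2.1.trans ht.le, htT⟩) (not_le.mpr ht)
    · exact absurd (hbig t (le_of_not_ge htT)) (not_lt.mpr hn)
  have hle : t₀ ^ d * I 0 d ≤ P t₀ := by
    refine le_of_forall_pos_le_add fun ε hε => ?_
    have hcont : Continuous fun t => P t - t ^ d * I 0 d := hP.sub ((continuous_pow d).mul continuous_const)
    obtain ⟨δ, hδ, hball⟩ := Metric.continuous_iff.mp hcont t₀ ε hε
    obtain ⟨q, hq1, hq2⟩ := exists_rat_btwn (show t₀ < t₀ + δ by linarith)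
    have hqpos : (0 : ℚ) < q := by exact_mod_cast ht0pos.trans hq1
    obtain ⟨b, a, hb, ha, rfl⟩ : ∃ b a : ℕ, 0 < b ∧ 0 < a ∧ q = (b : ℚ) / a :=
      ⟨q.num.toNat, q.den, by have := Rat.num_pos.mpr hqpos; omega, q.den_pos, by
        conv_lhs => rw [← Rat.num_div_den q]
        congr 1
        exact_mod_cast (Int.toNat_of_nonneg (Rat.num_nonneg.mpr hqpos.le)).symm⟩
    push_cast at hq1 hq2
    have hk := key a b ha hb (habove _ hq1)
    have hd' := hball ((b : ℝ) / a) (by rw [Real.dist_eq, abs_of_pos (by linarith)]; linarith)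
    rw [Real.dist_eq] at hd'
    have h7 := (abs_lt.mp hd').2
    show _ ≤ mixed I d 0 0 t₀ + ε
    change mixed I d 0 0 _ - _ - (mixed I d 0 0 t₀ - _) < ε at h7
    linarith
  exact absurd (lt_of_lt_of_le (mul_pos (pow_pos ht0pos d) h0) hle) (not_lt.mpr ht₀.1)

omit hI

variable (k : Type u) [Field k] {X : Scheme.{u}} [X.Over (Spec (CommRingCat.of k))]
  [IsProper (X ↘ Spec (CommRingCat.of k))]

/-- Cutting with an ample module preserves non-negativity. -/
theorem inum_cons_nonneg [IsIntegral X] {M : X.Modules} (hM : CohB1.IsAmple M) {l : List X.Modules} (hl : Inv l)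
    (hX : topologicalKrullDim X ≤ ((l.length + 1 : ℕ) : WithBot ℕ∞))
    (h : ∀ (W : Scheme.{u}) (j : W ⟶ X) [IsClosedImmersion j] [IsIntegral W],
      topologicalKrullDim W = (l.length : WithBot ℕ∞) → 0 ≤ inumOn k j l) :
    0 ≤ inum k (M :: l) (Coh.structureModule X) := by
  haveI := isNoetherian_of_proper (X := X) k
  obtain ⟨n, hn, s, hs, -⟩ := affLoci_of_isAmple hM (genericPoint X)
  have hMn := isInvertible_tensorPow hM.1 n
  have hs0 : s ≠ 0 := by
    rintro rfl
    obtain ⟨V, hV, β, hβ⟩ := exists_isBasis hMn (genericPoint X)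
    have h1 := genOpen_inf_eq_basicOpen hMn hβ (s := (0 : Γ(CohB1.tensorPow M n, ⊤))) (c := 0)
      (by rw [zero_smul]; exact map_zero _)
    rw [X.basicOpen_zero] at h1
    exact h1.le ⟨hs, hV⟩
  obtain ⟨hQ, hQd, -, heq⟩ := inum_cut k hMn s hs0 hl hX
  have hO : Coh.IsCoh (Coh.structureModule X) := isCoh_of_isInvertible (HilbPoly.isInvertible_structureModule X)
  have hpow := inum_head_pow k hM.1 hl hO ((topologicalKrullDim_subspace_le X _).trans hX) n
  have hnn : 0 ≤ inum k (CohB1.tensorPow M n :: l) (Coh.structureModule X) := by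
    rw [heq]
    exact inum_nonneg k hl hQ hQd fun W j _ _ _ hW => h W j hW
  rw [hpow] at hnn
  exact nonneg_of_mul_nonneg_right hnn (by exact_mod_cast hn)

/-- `n` copies of `M`, `i` of `L`, `j` of `A`. -/
def rep (M L A : X.Modules) (n i j : ℕ) : List X.Modules :=
  List.replicate n M ++ (List.replicate i L ++ List.replicate j A)

omit [X.Over (Spec (CommRingCat.of k))] [IsProper (X ↘ Spec (CommRingCat.of k))] in
theorem inv_rep {M L A : X.Modules} (hM : PicF.IsInvertible M) (hL : PicF.IsInvertible L) (hA : PicF.IsInvertible A)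
    (n i j : ℕ) : Inv (rep M L A n i j) := fun B hB => by
  simp only [rep, List.mem_append] at hB
  rcases hB with h | h | h
  exacts [Inv.replicate hM n B h, Inv.replicate hL i B h, Inv.replicate hA j B h]

/-- The intersection numbers of `L^a ⊗ A^b` in terms of `mixed`. -/
theorem inum_rep_eq {L A M : X.Modules} (hL : PicF.IsInvertible L) (hA : PicF.IsInvertible A)
    (hM : PicF.IsInvertible M) {a b : ℕ} (ha : 0 < a)
    (eM : Nonempty (M ≅ CohB1.tensorMod (CohB1.tensorPow L a) (CohB1.tensorPow A b))) :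
    ∀ n i j, topologicalKrullDim X ≤ ((n + i + j : ℕ) : WithBot ℕ∞) →
      (inum k (rep M L A n i j) (Coh.structureModule X) : ℝ) =
        (a : ℝ) ^ n * mixed (fun i j => (inum k (rep M L A 0 i j) (Coh.structureModule X) : ℝ)) n i j ((b : ℝ) / a)
  | 0, i, j, _ => by rw [pow_zero, one_mul, mixed]
  | n + 1, i, j, hd => by
    haveI := isNoetherian_of_proper (X := X) k
    have hO : Coh.IsCoh (Coh.structureModule X) := isCoh_of_isInvertible (HilbPoly.isInvertible_structureModule X)
    have hr := inv_rep hM hL hA n i j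
    have hlen : (rep M L A n i j).length = n + i + j := by simp [rep, Nat.add_assoc]
    have hd' : topologicalKrullDim (CohB1.support (Coh.structureModule X)) ≤
        (((rep M L A n i j).length + 1 : ℕ) : WithBot ℕ∞) :=
      ((topologicalKrullDim_subspace_le X _).trans hd).trans (by rw [hlen]; exact_mod_cast le_of_eq (by omega))
    have hLa := isInvertible_tensorPow hL a
    have hAb := isInvertible_tensorPow hA b
    have p1 : (rep M L A n (i + 1) j).Perm (L :: rep M L A n i j) := by
      simp only [rep, List.replicate_succ, List.cons_append]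
      exact List.perm_middle
    have p2 : (rep M L A n i (j + 1)).Perm (A :: rep M L A n i j) := by
      simp only [rep, List.replicate_succ]
      exact (List.Perm.append_left _ List.perm_middle).trans List.perm_middle
    have e1 : inum k (rep M L A (n + 1) i j) (Coh.structureModule X) =
        (a : ℤ) * inum k (rep M L A n (i + 1) j) (Coh.structureModule X) +
          (b : ℤ) * inum k (rep M L A n i (j + 1)) (Coh.structureModule X) := by
      rw [inum_perm k p1 (inv_rep hM hL hA _ _ _), inum_perm k p2 (inv_rep hM hL hA _ _ _)]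
      show inum k (M :: rep M L A n i j) _ = _
      rw [inum_head_congr k eM.some, inum_head_tensor k hLa hAb hr hO hd', inum_head_pow k hL hr hO hd',
        inum_head_pow k hA hr hO hd']
    have ha' : (a : ℝ) ≠ 0 := by exact_mod_cast ha.ne'
    rw [e1]
    push_cast
    rw [inum_rep_eq hL hA hM ha eM n (i + 1) j (hd.trans (by exact_mod_cast le_of_eq (by omega))),
      inum_rep_eq hL hA hM ha eM n i (j + 1) (hd.trans (by exact_mod_cast le_of_eq (by omega)))]
    simp only [mixed]
    field_simp
    ring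

/-- An isomorphic ambient integral scheme. -/
theorem inum_eq_inumOn_of_surjective [IsIntegral X] {W : Scheme.{u}} (j : W ⟶ X) [IsClosedImmersion j]
    (hj : Set.range j = Set.univ) {l : List X.Modules} (hl : Inv l) :
    inum k l (Coh.structureModule X) = inumOn k j l := by
  haveI : Surjective j := ⟨Set.range_eq_univ.mp hj⟩
  haveI : IsIso j := isIso_of_isClosedImmersion_of_surjective j
  have h := inum_push k j hl (Coh.structureModule W) (InvBasic.isQuasicoherent_structureModule _)
  have e : (Scheme.Modules.pushforward j).obj (Coh.structureModule W) ≅ Coh.structureModule X :=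
    (@asIso _ _ _ _ (SheafOfModules.unitToPushforwardObjUnit j.toRingCatSheafHom)
      (nonempty_push_structureModule_iso.isIso_unit_of_isIso j)).symm
  rw [inum_congr k l e] at h
  exact h

theorem nonneg_aux : ∀ (d : ℕ) (X : Scheme.{u}) [X.Over (Spec (CommRingCat.of k))]
    [IsProper (X ↘ Spec (CommRingCat.of k))] [IsIntegral X] (L A : X.Modules), PicF.IsInvertible L →
    CohB1.IsAmple A → Nef k L → topologicalKrullDim X = (d : WithBot ℕ∞) →
    ∀ i j, i + j = d → 0 ≤ inum k (List.replicate i L ++ List.replicate j A) (Coh.structureModule X) := by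
  intro d
  induction d using Nat.strong_induction_on with
  | _ d ih =>
  intro X _ _ _ L A hL hA hnef hX
  haveI := isNoetherian_of_proper (X := X) k
  -- subvarieties
  have hsub : ∀ (W : Scheme.{u}) (j : W ⟶ X) [IsClosedImmersion j] [IsIntegral W] (e : ℕ),
      topologicalKrullDim W = (e : WithBot ℕ∞) → e < d → ∀ i l, i + l = e →
        0 ≤ inumOn k j (List.replicate i L ++ List.replicate l A) := by
    intro W j _ _ e hW he i l hil
    letI : W.Over (Spec (CommRingCat.of k)) := ⟨j ≫ (X ↘ Spec (CommRingCat.of k))⟩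
    haveI : IsProper (W ↘ Spec (CommRingCat.of k)) :=
      inferInstanceAs (IsProper (j ≫ (X ↘ Spec (CommRingCat.of k))))
    unfold inumOn
    rw [List.map_append, List.map_replicate, List.map_replicate]
    exact ih e he W _ _ (isInvertible_pullback j hL) (AmpleDescent.isAmple_pullback_affine hA j)
      (Nef.pullback k hnef j rfl) hW i l hil
  -- mixed numbers
  have hpos : ∀ i j, 0 < j → i + j = d → 0 ≤ inum k (List.replicate i L ++ List.replicate j A) (Coh.structureModule X) := by
    intro i j hj hij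
    obtain ⟨j, rfl⟩ : ∃ j', j = j' + 1 := ⟨j - 1, by omega⟩
    have hinv : Inv (List.replicate i L ++ List.replicate j A) := fun B hB => by
      rcases List.mem_append.mp hB with h | h
      exacts [Inv.replicate hL i B h, Inv.replicate hA.1 j B h]
    rw [List.replicate_succ, inum_perm k List.perm_middle (by
      intro B hB
      rcases List.mem_append.mp hB with h | h
      · exact Inv.replicate hL i B h
      · exact ((Inv.replicate hA.1 j).cons hA.1) B h)]
    refine inum_cons_nonneg k hA hinv (by rw [hX]; exact_mod_cast le_of_eq (by simp; omega)) fun W w _ _ hW => ?_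
    exact hsub W w _ hW (by simp; omega) i j (by simp)
  intro i j hij
  rcases Nat.eq_zero_or_pos j with hj | hj
  swap
  · exact hpos i j hj hij
  obtain rfl : i = d := by omega
  subst hj
  rcases Nat.lt_or_ge i 2 with hd2 | hd2
  · rcases Nat.eq_zero_or_pos i with rfl | hi0
    · exact (inum_pos_of_isAmple k hA hX).le
    · obtain rfl : i = 1 := by omega
      have h := hnef X (𝟙 X) (by simpa using hX)
      rw [← inum_eq_inumOn_of_surjective k (𝟙 X) (by simp) (Inv.cons hL fun _ h => absurd h List.not_mem_nil)] at h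
      exact h
  -- the real-variable argument
  let J : ℕ → ℕ → ℝ := fun i j => (inum k (List.replicate i L ++ List.replicate j A) (Coh.structureModule X) : ℝ)
  have hJ : ∀ a j, 0 < j → a + j = i → 0 ≤ J a j := fun a j hj h => Int.cast_nonneg_iff.mpr (hpos a j hj h)
  have hJ0 : 0 < J 0 i := Int.cast_pos.mpr (by simpa using inum_pos_of_isAmple k hA hX)
  refine (Int.cast_nonneg_iff (R := ℝ)).mp (mixed_top_pos hJ (by omega) hJ0 fun a b ha hb hP => ?_)
  obtain ⟨m, rfl⟩ : ∃ m, i = m + 1 := ⟨i - 1, by omega⟩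
  let M := CohB1.tensorMod (CohB1.tensorPow L a) (CohB1.tensorPow A b)
  have hM : PicF.IsInvertible M := isInvertible_tensorMod (isInvertible_tensorPow hL a) (isInvertible_tensorPow hA.1 b)
  have ht : (0 : ℝ) ≤ (b : ℝ) / a := by positivity
  have ha' : (0 : ℝ) < a := by exact_mod_cast ha
  have hlt : ∀ {W : Scheme.{u}} (j : W ⟶ X) [IsClosedImmersion j], Set.range j ≠ Set.univ →
      ∀ e : ℕ, topologicalKrullDim W = (e : WithBot ℕ∞) → e < m + 1 := fun {W} j _ hj e hW => by
    have h := HilbPoly.dim_lt_of_ssubset j.isClosedEmbedding.isClosed_range (IrreducibleSpace.isIrreducible_univ X)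
      isClosed_univ ((Set.subset_univ _).ssubset_of_ne hj) (d := m + 1)
      (((topologicalKrullDim_subspace_le X _).trans hX.le).trans_lt (by exact_mod_cast Nat.lt_succ_self (m + 1)))
    rw [← dim_source j, hW] at h
    exact_mod_cast h
  -- the values on subvarieties
  have hW : ∀ (W : Scheme.{u}) (j : W ⟶ X) [IsClosedImmersion j] [IsIntegral W] (e : ℕ),
      topologicalKrullDim W = (e : WithBot ℕ∞) → e < m + 1 →
      (0 < inumOn k j (List.replicate e M)) ∧
        ∀ e', e' + 1 = e → 0 ≤ inumOn k j (List.replicate e' M ++ [L]) := by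
    intro W j _ _ e hWd he
    letI : W.Over (Spec (CommRingCat.of k)) := ⟨j ≫ (X ↘ Spec (CommRingCat.of k))⟩
    haveI : IsProper (W ↘ Spec (CommRingCat.of k)) :=
      inferInstanceAs (IsProper (j ≫ (X ↘ Spec (CommRingCat.of k))))
    let jA := (Scheme.Modules.pullback j).obj
    have eM : Nonempty (jA M ≅ CohB1.tensorMod (CohB1.tensorPow (jA L) a) (CohB1.tensorPow (jA A) b)) := by
      obtain ⟨t⟩ := nonempty_pullback_tensor_iso j (isInvertible_tensorPow hL a) (isInvertible_tensorPow hA.1 b)
      obtain ⟨p⟩ := nonempty_pullback_pow_iso j hL a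
      obtain ⟨q⟩ := nonempty_pullback_pow_iso j hA.1 b
      exact ⟨t ≪≫ (ProjTwist.nonempty_tensorMod_iso p q).some⟩
    have hA' := AmpleDescent.isAmple_pullback_affine hA j
    have hL' := isInvertible_pullback j hL
    have heq := inum_rep_eq k (M := jA M) hL' hA'.1 (isInvertible_pullback j hM) ha eM
    let K : ℕ → ℕ → ℝ := fun i l =>
      (inum k (rep (jA M) (jA L) (jA A) 0 i l) (Coh.structureModule W) : ℝ)
    have hK : ∀ i l, i + l = e → 0 ≤ K i l := fun i l h => Int.cast_nonneg_iff.mpr (by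
      have := hsub W j e hWd he i l h
      unfold inumOn at this
      rw [List.map_append, List.map_replicate, List.map_replicate] at this
      exact this)
    constructor
    · rcases Nat.eq_zero_or_pos e with rfl | he0
      · exact inumOn_pos_of_isAmple k hA j hWd
      obtain ⟨e', rfl⟩ : ∃ e', e = e' + 1 := ⟨e - 1, by omega⟩
      have h1 := heq (e' + 1) 0 0 (by rw [hWd])
      have hK0 : (0 : ℝ) < K 0 (e' + 1) := Int.cast_pos.mpr (by
        simpa [rep] using inum_pos_of_isAmple k hA' hWd)
      have h2 := le_mixed_top (I := K) (fun i l _ => hK i l) (rfl : e' + 1 = e' + 1) ht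
      have h3 := le_mixed (I := K) (fun i l _ => hK i l) e' 1 rfl _ ht
      have h4 := hK (e' + 1) 0 rfl
      have h5 : (0 : ℝ) < ((b : ℝ) / a) ^ (e' + 1) * K 0 (e' + 1) :=
        mul_pos (pow_pos (div_pos (by exact_mod_cast hb) ha') _) hK0
      have h6 : (0 : ℝ) < (inum k (rep (jA M) (jA L) (jA A) (e' + 1) 0 0) (Coh.structureModule W) : ℝ) := by
        rw [h1]
        exact mul_pos (pow_pos ha' _) (by linarith)
      have h7 := Int.cast_pos.mp h6
      unfold inumOn
      rw [List.map_replicate]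
      simpa [rep] using h7
    · rintro e' rfl
      have h1 := heq e' 1 0 (by rw [hWd])
      have h3 := le_mixed (I := K) (fun i l _ => hK i l) e' 1 rfl _ ht
      have h4 := hK (e' + 1) 0 rfl
      have h6 : (0 : ℝ) ≤ (inum k (rep (jA M) (jA L) (jA A) e' 1 0) (Coh.structureModule W) : ℝ) := by
        rw [h1]
        exact mul_nonneg (pow_nonneg ha'.le _) (by linarith)
      have h7 := Int.cast_nonneg_iff.mp h6
      unfold inumOn
      rw [List.map_append, List.map_replicate]
      simpa [rep] using h7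
  have heq := inum_rep_eq k (L := L) (A := A) (M := M) hL hA.1 hM ha ⟨Iso.refl _⟩
  have hJK : (fun i j => (inum k (rep M L A 0 i j) (Coh.structureModule X) : ℝ)) = J := rfl
  have hMamp : CohB1.IsAmple M := isAmple_of_inumOn_pos k hM fun W j _ _ e he hWd => by
    by_cases hj : Set.range j = Set.univ
    · rw [← inum_eq_inumOn_of_surjective k j hj (Inv.replicate hM e)]
      have h : topologicalKrullDim W = topologicalKrullDim X := by
        rw [dim_source j, hj]
        exact IsHomeomorph.topologicalKrullDim_eq _ (Homeomorph.Set.univ X).isHomeomorph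
      rw [hWd, hX] at h
      obtain rfl : e = m + 1 := by exact_mod_cast h
      have h1 := heq (m + 1) 0 0 (by rw [hX])
      rw [hJK] at h1
      have h6 : (0 : ℝ) < (inum k (rep M L A (m + 1) 0 0) (Coh.structureModule X) : ℝ) := by
        rw [h1]; exact mul_pos (pow_pos ha' _) hP
      simpa [rep] using Int.cast_pos.mp h6
    · exact (hW W j e hWd (hlt j hj e hWd)).1
  obtain ⟨m', rfl⟩ : ∃ m', m = m' + 1 := ⟨m - 1, by omega⟩
  have hQ : 0 ≤ inum k (rep M L A (m' + 1) 1 0) (Coh.structureModule X) := by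
    show 0 ≤ inum k (M :: rep M L A m' 1 0) _
    refine inum_cons_nonneg k hMamp (inv_rep hM hL hA.1 _ _ _) (by rw [hX]; simp [rep]) fun W j _ _ hWd => ?_
    have hWd' : topologicalKrullDim W = ((m' + 1 : ℕ) : WithBot ℕ∞) := by rw [hWd]; simp [rep]
    simpa [rep] using (hW W j (m' + 1) hWd' (Nat.lt_succ_self _)).2 m' rfl
  have h1 := heq (m' + 1) 1 0 (by rw [hX])
  rw [hJK] at h1
  have hQ' : 0 ≤ mixed J (m' + 1) 1 0 ((b : ℝ) / a) := by
    have h6 : (0 : ℝ) ≤ (a : ℝ) ^ (m' + 1) * mixed J (m' + 1) 1 0 ((b : ℝ) / a) := h1 ▸ Int.cast_nonneg_iff.mpr hQ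
    exact nonneg_of_mul_nonneg_right h6 (pow_pos ha' _)
  have := le_mixed_top hJ (rfl : m' + 1 + 1 = m' + 1 + 1) ht
  linarith

/-- **Kleiman**: a nef module has non-negative intersection numbers, also mixed with an ample one. -/
theorem inumOn_nonneg_of_nef {L A : X.Modules} (hL : PicF.IsInvertible L) (hA : CohB1.IsAmple A) (hnef : Nef k L)
    {W : Scheme.{u}} (j : W ⟶ X) [IsClosedImmersion j] [IsIntegral W] {i l : ℕ}
    (hW : topologicalKrullDim W = ((i + l : ℕ) : WithBot ℕ∞)) :
    0 ≤ inumOn k j (List.replicate i L ++ List.replicate l A) := by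
  letI : W.Over (Spec (CommRingCat.of k)) := ⟨j ≫ (X ↘ Spec (CommRingCat.of k))⟩
  haveI : IsProper (W ↘ Spec (CommRingCat.of k)) :=
    inferInstanceAs (IsProper (j ≫ (X ↘ Spec (CommRingCat.of k))))
  unfold inumOn
  rw [List.map_append, List.map_replicate, List.map_replicate]
  exact nonneg_aux k (i + l) W _ _ (isInvertible_pullback j hL) (AmpleDescent.isAmple_pullback_affine hA j)
    (Nef.pullback k hnef j rfl) hW i l rfl

/-- `aL + bA` is ample for `L` nef and `A` ample. -/
theorem isAmple_tensor_of_nef {L A : X.Modules} (hL : PicF.IsInvertible L) (hA : CohB1.IsAmple A) (hnef : Nef k L)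
    {a b : ℕ} (ha : 0 < a) (hb : 0 < b) :
    CohB1.IsAmple (CohB1.tensorMod (CohB1.tensorPow L a) (CohB1.tensorPow A b)) := by
  have hM := isInvertible_tensorMod (isInvertible_tensorPow hL a) (isInvertible_tensorPow hA.1 b)
  refine isAmple_of_inumOn_pos k hM fun W j _ _ d hd hW => ?_
  letI : W.Over (Spec (CommRingCat.of k)) := ⟨j ≫ (X ↘ Spec (CommRingCat.of k))⟩
  haveI : IsProper (W ↘ Spec (CommRingCat.of k)) :=
    inferInstanceAs (IsProper (j ≫ (X ↘ Spec (CommRingCat.of k))))
  let jA := (Scheme.Modules.pullback j).obj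
  obtain ⟨t⟩ := nonempty_pullback_tensor_iso j (isInvertible_tensorPow hL a) (isInvertible_tensorPow hA.1 b)
  obtain ⟨p⟩ := nonempty_pullback_pow_iso j hL a
  obtain ⟨q⟩ := nonempty_pullback_pow_iso j hA.1 b
  have hA' := AmpleDescent.isAmple_pullback_affine hA j
  have heq := inum_rep_eq k (isInvertible_pullback j hL) hA'.1 (isInvertible_pullback j hM) ha
    ⟨t ≪≫ (ProjTwist.nonempty_tensorMod_iso p q).some⟩ d 0 0 (by rw [hW]; simp)
  let K : ℕ → ℕ → ℝ := fun i l => (inum k (rep (jA (CohB1.tensorMod (CohB1.tensorPow L a) (CohB1.tensorPow A b))) (jA L) (jA A) 0 i l) (Coh.structureModule W) : ℝ)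
  have hK : ∀ i l, i + l = d → 0 ≤ K i l := fun i l h => Int.cast_nonneg_iff.mpr
    (nonneg_aux k d W _ _ (isInvertible_pullback j hL) hA' (Nef.pullback k hnef j rfl) hW i l h)
  obtain ⟨m, rfl⟩ : ∃ m, d = m + 1 := ⟨d - 1, by omega⟩
  have ha' : (0 : ℝ) < a := by exact_mod_cast ha
  have ht : (0 : ℝ) ≤ (b : ℝ) / a := by positivity
  have hK0 : (0 : ℝ) < K 0 (m + 1) := Int.cast_pos.mpr (by simpa [rep] using inum_pos_of_isAmple k hA' hW)
  have h2 := le_mixed_top (I := K) (fun i l _ => hK i l) (rfl : m + 1 = m + 1) ht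
  have h3 := le_mixed (I := K) (fun i l _ => hK i l) m 1 rfl _ ht
  have h4 := hK (m + 1) 0 rfl
  have h5 : (0 : ℝ) < ((b : ℝ) / a) ^ (m + 1) * K 0 (m + 1) :=
    mul_pos (pow_pos (div_pos (by exact_mod_cast hb) ha') _) hK0
  have h6 : (0 : ℝ) < (inum k (rep (jA (CohB1.tensorMod (CohB1.tensorPow L a) (CohB1.tensorPow A b))) (jA L) (jA A) (m + 1) 0 0) (Coh.structureModule W) : ℝ) := by
    rw [heq]; exact mul_pos (pow_pos ha' _) (by linarith)
  unfold inumOn
  rw [List.map_replicate]
  simpa [rep] using Int.cast_pos.mp h6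

end Groth.Agent.IntTh
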