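import Groth.Agent.IntTh.Num
import Groth.Agent.IntTh.Kleiman

/-!
# Corollaries: semiample + strictly nef, numerical invariance of ampleness
-/

universe u

open CategoryTheory CategoryTheory.Limits AlgebraicGeometry Opposite TopologicalSpace

set_option backward.isDefEq.respectTransparency false
set_option maxHeartbeats 800000

namespace Groth.Agent.IntTh

open InvBasic ProjUniv Groth.Agent.InvPow Groth.Agent.QCohLib Groth.Agent.HilbPoly Groth.Agent.CurveDeg Groth.Agent.CohFinite

theorem ne_zero_of_mem_genOpen {X : Scheme.{u}} {M : X.Modules} (hM : PicF.IsInvertible M) {t : Γ(M, ⊤)} {x : X}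
    (hx : x ∈ genOpen hM t) : t ≠ 0 := by
  rintro rfl
  obtain ⟨V, hV, β, hβ⟩ := exists_isBasis hM x
  have h1 := genOpen_inf_eq_basicOpen hM hβ (s := (0 : Γ(M, ⊤))) (c := 0) (by rw [zero_smul]; exact map_zero _)
  rw [X.basicOpen_zero] at h1
  exact h1.le ⟨hx, hV⟩

theorem globalHom_ne_zero {X : Scheme.{u}} {M : X.Modules} {s : Coh.structureModule X ⟶ M} (hs : s ≠ 0) :
    ∃ σ : Γ(M, ⊤), σ ≠ 0 := by
  obtain ⟨σ, rfl⟩ := exists_globalHom_eq s
  refine ⟨σ, fun h0 => hs (Scheme.Modules.hom_ext _ _ fun V => AddCommGrpCat.ext fun r => ?_)⟩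
  rw [ProjTwist.globalHom_app, h0, map_zero, smul_zero]
  rfl

variable (k : Type u) [Field k] {X : Scheme.{u}} [X.Over (Spec (CommRingCat.of k))]
  [IsProper (X ↘ Spec (CommRingCat.of k))]

theorem strictNef_of_ideal {L : X.Modules} (hL : PicF.IsInvertible L)
    (h : ∀ C : X.IdealSheafData, IsIntegral C.subscheme → topologicalKrullDim (C.support : Set X) = 1 →
      0 < Curv2.euler k X (CohB1.tensorMod (ClSub.quotMod C) L) - Curv2.euler k X (ClSub.quotMod C)) :
    StrictNef k L := fun W j _ _ hW => by
  obtain ⟨C, h1, h2, h3⟩ := exists_ideal_of_curve k hL j hW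
  exact (h C h1 h2).trans_le h3.ge

theorem ideal_pos_of_isAmple {L : X.Modules} (hL : CohB1.IsAmple L) (C : X.IdealSheafData)
    (hd : topologicalKrullDim (C.support : Set X) = 1) :
    0 < Curv2.euler k X (CohB1.tensorMod (ClSub.quotMod C) L) - Curv2.euler k X (ClSub.quotMod C) := by
  rw [euler_quotMod_eq_inumOn k hL.1 C]
  refine inumOn_pos_of_isAmple k hL C.subschemeι (d := 1) ?_
  rw [dim_source C.subschemeι, Scheme.IdealSheafData.range_subschemeι, hd]
  rfl

/-- A strictly nef semiample module is ample. -/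
theorem isAmple_of_strictNef_of_semiample {L : X.Modules} (hL : PicF.IsInvertible L) (hs : StrictNef k L) {m : ℕ}
    (hm : 0 < m) (hgg : Curv2.IsGloballyGenerated (CohB1.tensorPow L m)) : CohB1.IsAmple L := by
  refine isAmple_of_strictNef_of_sections k hL hs fun W j _ _ => ?_
  obtain ⟨s, hx⟩ := exists_gen_of_isGloballyGenerated (isInvertible_tensorPow hL m) hgg (j (genericPoint W))
  obtain ⟨σ, hσ⟩ := (trPull j hL).exists_map hL (one_mul m) s
  exact ⟨m, hm, σ, ne_zero_of_mem_genOpen (isInvertible_tensorPow (isInvertible_pullback j hL) m)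
    (hσ.ge (show genericPoint W ∈ j ⁻¹ᵁ genOpen (isInvertible_tensorPow hL m) s from hx))⟩

include k in
/-- An ample module has a globally generated power. -/
theorem exists_globallyGenerated_pow {L : X.Modules} (hL : CohB1.IsAmple L) :
    ∃ m, Curv2.IsGloballyGenerated (CohB1.tensorPow L (m + 1)) := by
  haveI := isNoetherian_of_proper (X := X) k
  have h1 := isInvertible_tensorPow hL.1 1
  obtain ⟨e, he, hgen⟩ := AmpleDescent.exists_common_power (M := L) hL.1 fun x _ => by
    obtain ⟨n, hn, s, hs, -⟩ := affLoci_of_isAmple hL x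
    exact ⟨n, hn, s, hs⟩
  exact ⟨e - 1, by rw [Nat.sub_add_cancel he]; exact isGloballyGenerated_of_gen _ hgen⟩

/-- Ampleness is numerical. -/
theorem isAmple_of_numEq {L L' : X.Modules} (hL : CohB1.IsAmple L) (hL' : PicF.IsInvertible L') (h : NumEq k L L') :
    CohB1.IsAmple L' := by
  refine isAmple_of_inumOn_pos k hL' fun W j _ _ d hd hW => ?_
  letI : W.Over (Spec (CommRingCat.of k)) := ⟨j ≫ (X ↘ Spec (CommRingCat.of k))⟩
  haveI : IsProper (W ↘ Spec (CommRingCat.of k)) :=
    inferInstanceAs (IsProper (j ≫ (X ↘ Spec (CommRingCat.of k))))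
  haveI := isNoetherian_of_proper (X := W) k
  have h0 := inumOn_pos_of_isAmple k hL j hW
  unfold inumOn at h0 ⊢
  rw [List.map_replicate] at h0 ⊢
  have hpair : ∀ n, List.Forall₂ (fun A B => PicF.IsInvertible A ∧ PicF.IsInvertible B ∧ NumEq k A B)
      (List.replicate n ((Scheme.Modules.pullback j).obj L)) (List.replicate n ((Scheme.Modules.pullback j).obj L')) := by
    intro n
    induction n with
    | zero => exact List.Forall₂.nil
    | succ n ih =>
      rw [List.replicate_succ, List.replicate_succ]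
      refine List.Forall₂.cons ⟨isInvertible_pullback j hL.1, isInvertible_pullback j hL', fun V i _ _ hV => ?_⟩ ih
      have := h V (i ≫ j) hV
      rwa [inumOn_comp k i j rfl, inumOn_comp k i j rfl] at this
  have he := inum_eq_of_numEq k (F := Coh.structureModule W)
    (isCoh_of_isInvertible (HilbPoly.isInvertible_structureModule W)) (hpair d) (p := [])
    (fun _ h => absurd h List.not_mem_nil)
    ((topologicalKrullDim_subspace_le W _).trans (by simp [hW]))
  simp only [List.nil_append] at he
  rwa [← he]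

end Groth.Agent.IntTh
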