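import Groth.Agent.IntTh.Nakai
import Groth.Agent.NegVanish.Main

/-!
# Surfaces: a module with positive square and a section has positive degree against an ample one
-/

universe u

open CategoryTheory CategoryTheory.Limits AlgebraicGeometry Opposite TopologicalSpace

set_option backward.isDefEq.respectTransparency false
set_option maxHeartbeats 800000

namespace Groth.Agent.IntTh

open InvBasic ProjUniv Groth.Agent.InvPow Groth.Agent.QCohLib Groth.Agent.HilbPoly Groth.Agent.CurveDeg Groth.Agent.CohFinite

variable (k : Type u) [Field k] {X : Scheme.{u}} [X.Over (Spec (CommRingCat.of k))]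
  [IsProper (X ↘ Spec (CommRingCat.of k))]

theorem nonzero_section_of_HH {M : X.Modules} (h : Nontrivial (Coh.HH X M 0)) : ∃ σ : Γ(M, ⊤), σ ≠ 0 := by
  obtain ⟨a, b, hab⟩ := h
  let E : Coh.HH X M 0 ≃+ Γ(M, ⊤) :=
    (CohVanish.hEquiv (X := CohVanish.sp X) (Coh.toAb M) 0).trans (CohVanish.eu0 ⊤ _)
  exact ⟨E (a - b), fun h => hab (sub_eq_zero.mp (E.injective (h.trans (map_zero E).symm)))⟩

theorem intNum_two (hdim : topologicalKrullDim X ≤ 2) {N N' H H' : X.Modules} (hN : PicF.IsInvertible N)
    (hNN' : Nonempty (CohB1.tensorMod N N' ≅ Coh.structureModule X)) (hH : PicF.IsInvertible H)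
    (hHH' : Nonempty (CohB1.tensorMod H H' ≅ Coh.structureModule X)) :
    FGA.intNum k X 2 ![N', H'] (Coh.structureModule X) = inum k [N, H] (Coh.structureModule X) := by
  haveI := isNoetherian_of_proper (X := X) k
  have hN' : PicF.IsInvertible N' := NegVanish.isInvertible_of_inverse hN hNN'
  have hH' : PicF.IsInvertible H' := NegVanish.isInvertible_of_inverse hH hHH'
  have hO : Coh.IsCoh (Coh.structureModule X) := isCoh_of_isInvertible (HilbPoly.isInvertible_structureModule X)
  have nil : Inv ([] : List X.Modules) := fun _ h => absurd h List.not_mem_nil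
  have hd : ∀ A : X.Modules, topologicalKrullDim (CohB1.support (Coh.structureModule X)) ≤
      (([A].length + 1 : ℕ) : WithBot ℕ∞) := fun A =>
    ((topologicalKrullDim_subspace_le X _).trans hdim).trans (by simp)
  have hl : List.ofFn ![N', H'] = [N', H'] := by simp [List.ofFn_succ]
  rw [intNum_eq k hdim (M := ![N', H']) (fun i => by fin_cases i <;> assumption) hO, hl,
    inum_head_inverse k hN hN' hNN' (nil.cons hH') hO (hd H'), inum_swap k hN hH',
    inum_head_inverse k hH hH' hHH' (nil.cons hN) hO (hd N), inum_swap k hH hN]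
  norm_num

theorem pos_of_section [IsIntegral X] (hdim : topologicalKrullDim X = 2) {N H : X.Modules} (hN : PicF.IsInvertible N)
    (hpos : 0 < inum k [N, N] (Coh.structureModule X)) {n : ℕ} (hn : 0 < n) (σ : Γ(CohB1.tensorPow N n, ⊤))
    (hσ : σ ≠ 0) (hH : CohB1.IsAmple H) : 0 < inum k [N, H] (Coh.structureModule X) := by
  haveI := isNoetherian_of_proper (X := X) k
  have hO : Coh.IsCoh (Coh.structureModule X) := isCoh_of_isInvertible (HilbPoly.isInvertible_structureModule X)
  have nil : Inv ([] : List X.Modules) := fun _ h => absurd h List.not_mem_nil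
  have hd : ∀ A : X.Modules, topologicalKrullDim (CohB1.support (Coh.structureModule X)) ≤
      (([A].length + 1 : ℕ) : WithBot ℕ∞) := fun A =>
    ((topologicalKrullDim_subspace_le X _).trans hdim.le).trans (by simp)
  have hX : ∀ A : X.Modules, topologicalKrullDim X ≤ (([A].length + 1 : ℕ) : WithBot ℕ∞) := fun A =>
    hdim.le.trans (by simp)
  have hNn := isInvertible_tensorPow hN n
  obtain ⟨hQ, hQd, -, eH⟩ := inum_cut k hNn σ hσ (nil.cons hH.1) (hX H)
  obtain ⟨-, -, -, eN⟩ := inum_cut k hNn σ hσ (nil.cons hN) (hX N)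
  rw [inum_head_pow k hN (nil.cons hN) hO (hd N) n] at eN
  rw [inum_head_pow k hN (nil.cons hH.1) hO (hd H) n] at eH
  obtain ⟨ι, _, m, W, j, hj, hm, hsum⟩ := inum_eq_sum_subvarieties k (nil.cons hH.1) hQ (by simpa using hQd)
  rcases (show topologicalKrullDim (CohB1.support (cokernel (mulSection (Coh.structureModule X) σ))) ≤
      (([H] : List X.Modules).length : WithBot ℕ∞) by simpa using hQd).lt_or_eq with hlt | heq
  · have h0 := inum_eq_zero_of_dim k (l := [N]) (nil.cons hN) hQ (by simpa using hlt)
    rw [h0] at eN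
    exact absurd eN (mul_ne_zero (Int.natCast_ne_zero.mpr hn.ne') hpos.ne')
  · obtain ⟨i₀, hi₀⟩ := hm heq
    have hpos' : 0 < (n : ℤ) * inum k [N, H] (Coh.structureModule X) := by
      rw [eH, hsum [H] (nil.cons hH.1) rfl]
      refine Finset.sum_pos' (fun i _ => ?_) ⟨i₀, Finset.mem_univ _, ?_⟩
      · obtain ⟨h1, h2, -, h4⟩ := hj i
        haveI := h1
        exact mul_nonneg (Int.natCast_nonneg _) (inumOn_pos_of_isAmple k hH (j i) (d := 1) h4).le
      · obtain ⟨h1, h2, -, h4⟩ := hj i₀
        haveI := h1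
        exact mul_pos (Int.natCast_pos.mpr hi₀) (inumOn_pos_of_isAmple k hH (j i₀) (d := 1) h4)
    exact pos_of_mul_pos_right hpos' (Int.natCast_nonneg _)

end Groth.Agent.IntTh
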