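import Groth.Agent.IntTh.H0
import Groth.Agent.IntTh.Kleiman
import Groth.Agent.IntTh.Criteria
import Groth.Agent.IntTh.Surface
import Groth.Agent.NegVanish.DualInverse
import Groth.Agent.AssPoints.Basic
import Groth.Agent.S1576

/-!
# Big nef modules

On an integral scheme with an ample module, a nef invertible `L` has `L^n > 0` iff its powers have maximal
growth of sections; the proof of positivity to growth is Siu's comparison of `h⁰(A^q)` with the drops along a divisor.
-/

universe u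

open CategoryTheory CategoryTheory.Limits AlgebraicGeometry Opposite TopologicalSpace Filter

set_option backward.isDefEq.respectTransparency false
set_option maxHeartbeats 1600000

namespace Groth.Agent.IntTh

open InvBasic ProjUniv Groth.Agent.InvPow Groth.Agent.QCohLib Groth.Agent.HilbPoly Groth.Agent.CurveDeg Groth.Agent.CohFinite

variable (k : Type u) [Field k] {X : Scheme.{u}} [X.Over (Spec (CommRingCat.of k))]
  [IsProper (X ↘ Spec (CommRingCat.of k))]

omit [X.Over (Spec (CommRingCat.of k))] [IsProper (X ↘ Spec (CommRingCat.of k))] in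
theorem nonempty_pow_pow_cancel {B B' : X.Modules} (hB : PicF.IsInvertible B) (hB' : ClSub.IsInverseOf B B')
    (M : X.Modules) (s j : ℕ) :
    Nonempty (CohB1.tensorMod (CohB1.tensorPow B (s + j)) (CohB1.tensorMod M (CohB1.tensorPow B' j)) ≅
      CohB1.tensorMod M (CohB1.tensorPow B s)) := by
  have hB'i := NegVanish.isInvertible_of_inverse hB hB'
  have hj := isInvertible_tensorPow hB j
  have hj' := isInvertible_tensorPow hB'i j
  have hs := isInvertible_tensorPow hB s
  have hsj := isInvertible_tensorPow hB (s + j)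
  obtain ⟨p⟩ := nonempty_pow_add_iso hB s j
  obtain ⟨c⟩ := ProjTwist.nonempty_tensorMod_comm (CohB1.tensorPow B (s + j)) (CohB1.tensorMod M (CohB1.tensorPow B' j))
  obtain ⟨a⟩ := nonempty_assoc M hj' hsj
  obtain ⟨c₂⟩ := ProjTwist.nonempty_tensorMod_comm (CohB1.tensorPow B' j) (CohB1.tensorPow B (s + j))
  obtain ⟨a₂⟩ := nonempty_assoc (CohB1.tensorPow B s) hj hj'
  obtain ⟨e⟩ := NegVanish.isInverseOf_pow hB hB' j
  exact ⟨c ≪≫ a.symm ≪≫ (ProjTwist.nonempty_tensorMod_iso (Iso.refl M) (c₂ ≪≫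
    (ProjTwist.nonempty_tensorMod_iso p.symm (Iso.refl _)).some ≪≫ a₂.symm ≪≫
    (ProjTwist.nonempty_tensorMod_iso (Iso.refl _) e).some ≪≫ SecTwist.unitorR _)).some⟩

/-- The drop of `h⁰` along the divisor of a section. -/
theorem hdim_cut [IsIntegral X] {B B' : X.Modules} (hB : PicF.IsInvertible B) (hB' : ClSub.IsInverseOf B B')
    (σ : Γ(B, ⊤)) (hσ : σ ≠ 0) {M : X.Modules} (hM : PicF.IsInvertible M) (j : ℕ) :
    hdim k X (CohB1.tensorMod M (CohB1.tensorPow B' j)) 0 ≤
      hdim k X (CohB1.tensorMod M (CohB1.tensorPow B' (j + 1))) 0 +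
      hdim k X (CohB1.tensorMod (cokernel (mulSection (Coh.structureModule X) σ))
        (CohB1.tensorMod M (CohB1.tensorPow B' (j + 1)))) 0 := by
  haveI := isNoetherian_of_proper (X := X) k
  have hB'i := NegVanish.isInvertible_of_inverse hB hB'
  let O := Coh.structureModule X
  have hO : Coh.IsCoh O := isCoh_of_isInvertible (HilbPoly.isInvertible_structureModule X)
  have hG : PicF.IsInvertible (CohB1.tensorMod M (CohB1.tensorPow B' (j + 1))) :=
    isInvertible_tensorMod hM (isInvertible_tensorPow hB'i _)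
  haveI : Mono (mulSection O σ) := mono_mulSection_invertible (HilbPoly.isInvertible_structureModule X) hB σ
    (genOpen_nonempty_of_ne_zero hB hσ)
  have hOB := HilbPoly.isCoh_tensorMod hO hB
  have hQ : Coh.IsCoh (cokernel (mulSection O σ)) := QCohLib.isCoh_cokernel _ hO.1 hOB
  obtain ⟨h1, h2⟩ := hdim_zero_le k (S := tSC _ hG) (shortExact_tSC (CohFinite.shortExact_cokernel (mulSection O σ)) hG)
    (HilbPoly.isCoh_tensorMod hOB hG) (HilbPoly.isCoh_tensorMod hO hG) (HilbPoly.isCoh_tensorMod hQ hG)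
  let G := CohB1.tensorMod M (CohB1.tensorPow B' (j + 1))
  have u : CohB1.tensorMod O G ≅ G := (ProjTwist.nonempty_tensorMod_comm O G).some ≪≫ SecTwist.unitorR G
  obtain ⟨v⟩ : Nonempty (CohB1.tensorMod (CohB1.tensorMod O B) G ≅ CohB1.tensorMod M (CohB1.tensorPow B' j)) := by
    have hj' := isInvertible_tensorPow hB'i j
    obtain ⟨c⟩ := ProjTwist.nonempty_tensorMod_comm (CohB1.tensorMod O B) G
    obtain ⟨cB⟩ := ProjTwist.nonempty_tensorMod_comm O B
    obtain ⟨a⟩ := nonempty_assoc M hj' hB'i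
    obtain ⟨a₂⟩ := nonempty_assoc (CohB1.tensorMod M (CohB1.tensorPow B' j)) hB'i hB
    obtain ⟨c'⟩ := ProjTwist.nonempty_tensorMod_comm B' B
    obtain ⟨e⟩ := hB'
    exact ⟨c ≪≫ (ProjTwist.nonempty_tensorMod_iso a (cB ≪≫ SecTwist.unitorR B)).some ≪≫ a₂.symm ≪≫
      (ProjTwist.nonempty_tensorMod_iso (Iso.refl _) (c' ≪≫ e)).some ≪≫ SecTwist.unitorR _⟩
  have e1 := hdim_congr k u 0
  have e2 := hdim_congr k v 0
  change hdim k X (CohB1.tensorMod (CohB1.tensorMod O B) G) 0 ≤ hdim k X (CohB1.tensorMod O G) 0 +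
    hdim k X (CohB1.tensorMod (cokernel (mulSection O σ)) G) 0 at h2
  rw [e1, e2] at h2
  exact h2

include k in
/-- A section of some power of an ample module which is a non-zero-divisor on a coherent module. -/
theorem exists_regular_section {B : X.Modules} (hB : CohB1.IsAmple B) {Q : X.Modules} (hQ : Coh.IsCoh Q) :
    ∃ e, 0 < e ∧ ∀ t : ℕ, 0 < t → ∃ τ : Γ(CohB1.tensorPow B (e * t), ⊤), Mono (mulSection Q τ) := by
  haveI := isNoetherian_of_proper (X := X) k
  have hfin : {x : X | x ∈ (⊤ : X.Opens) ∧ Curv2.IsAssPoint Q x}.Finite :=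
    S1576.result X Q hQ ⊤ isCompact_univ
  obtain ⟨e, he, τ, hsub, -, -⟩ := exists_locus_finite hB _ hfin ⊤ (fun _ _ => trivial)
  refine ⟨e, he, fun t ht => ⟨spow hB.1 τ t, mono_mulSection Q (isInvertible_tensorPow hB.1 _) _ fun W => ?_⟩⟩
  refine AssPoints.restrict_injective hQ.1 inf_le_left fun x hxW hw => ⟨hxW, ?_⟩
  rw [genOpen_spow hB.1 τ ht]
  exact hsub ⟨trivial, AssPoints.isWeakAssPoint_iff_isAssPoint.mp hw⟩

/-- Multiplying by a regular section increases `h⁰`. -/
theorem hdim_le_of_regular {Q E G H : X.Modules} (hQ : Coh.IsCoh Q) (hE : PicF.IsInvertible E) (τ : Γ(E, ⊤))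
    [Mono (mulSection Q τ)] (hG : PicF.IsInvertible G)
    (e : CohB1.tensorMod (CohB1.tensorMod Q E) G ≅ H) :
    hdim k X (CohB1.tensorMod Q G) 0 ≤ hdim k X H 0 := by
  haveI := isNoetherian_of_proper (X := X) k
  have hQE := HilbPoly.isCoh_tensorMod hQ hE
  have hC : Coh.IsCoh (cokernel (mulSection Q τ)) := QCohLib.isCoh_cokernel _ hQ.1 hQE
  obtain ⟨h1, -⟩ := hdim_zero_le k (S := tSC _ hG) (shortExact_tSC (CohFinite.shortExact_cokernel (mulSection Q τ)) hG)
    (HilbPoly.isCoh_tensorMod hQE hG) (HilbPoly.isCoh_tensorMod hQ hG) (HilbPoly.isCoh_tensorMod hC hG)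
  exact h1.trans (hdim_congr k e 0).le

/-- **Siu's inequality**: growth of `h⁰(F ⊗ A^q ⊗ B^{-cq})`. -/
theorem siu [IsIntegral X] {m : ℕ} (hX : topologicalKrullDim X = ((m + 1 : ℕ) : WithBot ℕ∞))
    {A B B' : X.Modules} (hA : CohB1.IsAmple A) (hB : CohB1.IsAmple B) (hB' : ClSub.IsInverseOf B B')
    (σ : Γ(B, ⊤)) (hσ : σ ≠ 0) (c : ℕ)
    (hpos : ((m + 1) * c : ℤ) * inum k (B :: List.replicate m A) (Coh.structureModule X) <
      inum k (List.replicate (m + 1) A) (Coh.structureModule X))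
    {F : X.Modules} (hF : PicF.IsInvertible F) :
    ∃ C : ℝ, 0 < C ∧ ∃ q₁ : ℕ, ∀ q, q₁ ≤ q → C * (q : ℝ) ^ (m + 1) ≤
      (hdim k X (CohB1.tensorMod (CohB1.tensorMod F (CohB1.tensorPow A q)) (CohB1.tensorPow B' (c * q))) 0 : ℝ) := by
  classical
  haveI := isNoetherian_of_proper (X := X) k
  let O := Coh.structureModule X
  have hO : Coh.IsCoh O := isCoh_of_isInvertible (HilbPoly.isInvertible_structureModule X)
  have hB'i := NegVanish.isInvertible_of_inverse hB.1 hB'
  have hlA := Inv.replicate hA.1 m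
  obtain ⟨hQ, hQd, -, hcut⟩ := inum_cut k hB.1 σ hσ hlA (by rw [hX, List.length_replicate])
  set Q := cokernel (mulSection O σ) with hQdef
  rw [List.length_replicate] at hQd
  obtain ⟨e, he, hτ⟩ := exists_regular_section k hB hQ
  let a : ℝ := (inum k (List.replicate (m + 1) A) O : ℝ)
  let b : ℝ := (inum k (List.replicate m A) Q : ℝ)
  have hab : ((m + 1 : ℕ) : ℝ) * c * b < a := by
    have := (Int.cast_lt (R := ℝ)).mpr hpos
    rw [hcut] at this
    push_cast at this ⊢
    exact this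
  have hOd : topologicalKrullDim (CohB1.support O) ≤ ((m + 1 : ℕ) : WithBot ℕ∞) :=
    (topologicalKrullDim_subspace_le X _).trans hX.le
  -- leading terms do not see the twists
  have hinvF : inum k (List.replicate (m + 1) A) F = inum k (List.replicate (m + 1) A) O := by
    have h0 := inum_eq_zero_of_dim k ((Inv.replicate hA.1 (m + 1)).cons hF) hO
      (hOd.trans_lt (by rw [List.length_cons, List.length_replicate]; exact_mod_cast Nat.lt_succ_self (m + 1)))
    rw [inum, inum_congr k _ ((ProjTwist.nonempty_tensorMod_comm O F).some ≪≫ SecTwist.unitorR F)] at h0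
    linarith
  have hFd : topologicalKrullDim (CohB1.support F) ≤ ((m + 1 : ℕ) : WithBot ℕ∞) :=
    (topologicalKrullDim_subspace_le X _).trans hX.le
  let E : ℕ → X.Modules := fun s => CohB1.tensorMod F (CohB1.tensorPow B s)
  have hE : ∀ s, PicF.IsInvertible (E s) := fun s => isInvertible_tensorMod hF (isInvertible_tensorPow hB.1 s)
  have hQE : ∀ s, Coh.IsCoh (CohB1.tensorMod Q (E s)) := fun s => HilbPoly.isCoh_tensorMod hQ (hE s)
  have hQEd : ∀ s, topologicalKrullDim (CohB1.support (CohB1.tensorMod Q (E s))) ≤ (m : WithBot ℕ∞) := fun s => by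
    rw [HilbPoly.support_tensorMod Q (hE s)]
    exact hQd
  have hinvQ : ∀ s, inum k (List.replicate m A) (CohB1.tensorMod Q (E s)) = inum k (List.replicate m A) Q := fun s => by
    have h0 := inum_eq_zero_of_dim k (hlA.cons (hE s)) hQ
      (hQd.trans_lt (by rw [List.length_cons, List.length_replicate]; exact_mod_cast Nat.lt_succ_self m))
    rw [inum] at h0
    linarith
  -- the asymptotic estimates
  let D : ℝ := a / ((m + 1).factorial : ℝ) - c * (b / (m.factorial : ℝ))
  have hD : 0 < D := by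
    have hm : (0 : ℝ) < (m.factorial : ℝ) := by exact_mod_cast m.factorial_pos
    have : D = (a - ((m + 1 : ℕ) : ℝ) * c * b) / ((m + 1).factorial : ℝ) := by
      simp only [D, Nat.factorial_succ]
      push_cast
      field_simp
    rw [this]
    exact div_pos (by linarith) (by exact_mod_cast (m + 1).factorial_pos)
  let δ : ℝ := D / (2 * (1 + c))
  have hc0 : (0 : ℝ) ≤ c := Nat.cast_nonneg c
  have hδ : 0 < δ := div_pos hD (by positivity)
  have t1 := tendsto_hdim_pow k hA (isCoh_of_isInvertible hF) hFd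
  rw [hinvF] at t1
  have t2 : ∀ s, Tendsto (fun p : ℕ => (hdim k X (CohB1.tensorMod (CohB1.tensorMod Q (E s)) (CohB1.tensorPow A p)) 0 : ℝ) /
      (p : ℝ) ^ m) atTop (nhds (b / (m.factorial : ℝ))) := fun s => by
    have := tendsto_hdim_pow k hA (hQE s) (hQEd s)
    rwa [hinvQ s] at this
  have ev : ∀ᶠ q : ℕ in atTop, a / ((m + 1).factorial : ℝ) - δ <
      (hdim k X (CohB1.tensorMod F (CohB1.tensorPow A q)) 0 : ℝ) / (q : ℝ) ^ (m + 1) ∧
      (∀ s ∈ Finset.range e, (hdim k X (CohB1.tensorMod (CohB1.tensorMod Q (E s)) (CohB1.tensorPow A q)) 0 : ℝ) /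
        (q : ℝ) ^ m < b / (m.factorial : ℝ) + δ) ∧ 0 < q :=
    (t1.eventually_const_lt (by linarith)).and (((Finset.range e).eventually_all.mpr fun s _ =>
      (t2 s).eventually_lt_const (by linarith)).and (eventually_gt_atTop 0))
  obtain ⟨q₁, hq₁⟩ := eventually_atTop.mp ev
  refine ⟨D / 2, by linarith, q₁, fun q hq => ?_⟩
  obtain ⟨hbig, hsmall, hq0⟩ := hq₁ q hq
  have hqpos : (0 : ℝ) < (q : ℝ) := by exact_mod_cast hq0
  rw [lt_div_iff₀ (pow_pos hqpos _)] at hbig
  let M := CohB1.tensorMod F (CohB1.tensorPow A q)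
  have hM : PicF.IsInvertible M := isInvertible_tensorMod hF (isInvertible_tensorPow hA.1 q)
  let K : ℝ := (b / (m.factorial : ℝ) + δ) * (q : ℝ) ^ m
  -- each drop is small
  have hdrop : ∀ j : ℕ, (hdim k X (CohB1.tensorMod Q (CohB1.tensorMod M (CohB1.tensorPow B' (j + 1)))) 0 : ℝ) ≤ K := by
    intro j
    let t := (j + 1 + e - 1) / e
    have ht1 : j + 1 ≤ e * t := by
      have := Nat.div_add_mod (j + 1 + e - 1) e
      have := Nat.mod_lt (j + 1 + e - 1) he
      simp only [t]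
      omega
    have ht2 : e * t < j + 1 + e := by
      have := Nat.div_mul_le_self (j + 1 + e - 1) e
      simp only [t]
      rw [Nat.mul_comm]
      omega
    have ht0 : 0 < t := Nat.pos_of_ne_zero fun h => by rw [h, Nat.mul_zero] at ht1; omega
    obtain ⟨τ, hτ'⟩ := hτ t ht0
    let s := e * t - (j + 1)
    have hs : s ∈ Finset.range e := Finset.mem_range.mpr (by simp only [s]; omega)
    have hGj : PicF.IsInvertible (CohB1.tensorMod M (CohB1.tensorPow B' (j + 1))) :=
      isInvertible_tensorMod hM (isInvertible_tensorPow hB'i _)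
    have hP := isInvertible_tensorPow hB.1 (e * t)
    obtain ⟨a₁⟩ := nonempty_assoc Q hP hGj
    obtain ⟨p⟩ := nonempty_pow_pow_cancel hB.1 hB' M s (j + 1)
    obtain ⟨c₁⟩ := ProjTwist.nonempty_tensorMod_comm M (CohB1.tensorPow B s)
    obtain ⟨c₂⟩ := ProjTwist.nonempty_tensorMod_comm (CohB1.tensorPow B s) F
    obtain ⟨a₂⟩ := nonempty_assoc (CohB1.tensorPow B s) hF (isInvertible_tensorPow hA.1 q)
    obtain ⟨a₃⟩ := nonempty_assoc Q (hE s) (isInvertible_tensorPow hA.1 q)
    have hst : e * t = s + (j + 1) := by simp only [s]; omega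
    have i1 : CohB1.tensorMod (CohB1.tensorMod Q (CohB1.tensorPow B (e * t))) (CohB1.tensorMod M (CohB1.tensorPow B' (j + 1))) ≅
        CohB1.tensorMod (CohB1.tensorMod Q (E s)) (CohB1.tensorPow A q) :=
      a₁.symm ≪≫ (ProjTwist.nonempty_tensorMod_iso (Iso.refl Q)
        (eqToIso (by rw [hst]) ≪≫ p ≪≫ c₁ ≪≫ a₂ ≪≫ (ProjTwist.nonempty_tensorMod_iso c₂ (Iso.refl _)).some)).some ≪≫ a₃
    have h1 := hdim_le_of_regular k hQ hP τ hGj i1
    have h2 := hsmall s hs
    rw [div_lt_iff₀ (pow_pos hqpos _)] at h2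
    exact le_trans (by exact_mod_cast h1) h2.le
  have hsum : ∀ j : ℕ, (hdim k X M 0 : ℝ) ≤
      (hdim k X (CohB1.tensorMod M (CohB1.tensorPow B' j)) 0 : ℝ) + (j : ℝ) * K := by
    intro j
    induction j with
    | zero =>
      rw [Nat.cast_zero, zero_mul, add_zero]
      exact le_of_eq (by rw [hdim_congr k (SecTwist.unitorR M).symm 0]; rfl)
    | succ j ih =>
      have h1 : (hdim k X (CohB1.tensorMod M (CohB1.tensorPow B' j)) 0 : ℝ) ≤
          (hdim k X (CohB1.tensorMod M (CohB1.tensorPow B' (j + 1))) 0 : ℝ) +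
          (hdim k X (CohB1.tensorMod Q (CohB1.tensorMod M (CohB1.tensorPow B' (j + 1)))) 0 : ℝ) := by
        exact_mod_cast hdim_cut k hB.1 hB' σ hσ hM j
      have h2 := hdrop j
      push_cast
      linarith
  have h := hsum (c * q)
  have hfin : D / 2 * (q : ℝ) ^ (m + 1) =
      (a / ((m + 1).factorial : ℝ) - δ) * (q : ℝ) ^ (m + 1) - ((c * q : ℕ) : ℝ) * K := by
    simp only [K, δ, D]
    push_cast
    field_simp
    ring
  rw [hfin]
  change (a / ((m + 1).factorial : ℝ) - δ) * (q : ℝ) ^ (m + 1) < (hdim k X M 0 : ℝ) at hbig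
  linarith

/-- Positive self-intersection of a nef module gives maximal growth after subtracting an ample module. -/
theorem exists_growth_of_pos [IsIntegral X] {m : ℕ} (hX : topologicalKrullDim X = ((m + 1 : ℕ) : WithBot ℕ∞))
    {H : X.Modules} (hH : CohB1.IsAmple H) {L : X.Modules} (hL : PicF.IsInvertible L) (hnef : Nef k L)
    (hpos : 0 < inum k (List.replicate (m + 1) L) (Coh.structureModule X)) :
    ∃ (B B' : X.Modules) (σ : Γ(B, ⊤)) (a : ℕ), CohB1.IsAmple B ∧ ClSub.IsInverseOf B B' ∧ σ ≠ 0 ∧ 0 < a ∧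
      ∀ c, c ≤ 2 → ∀ F : X.Modules, PicF.IsInvertible F → ∃ C : ℝ, 0 < C ∧ ∃ q₁ : ℕ, ∀ q, q₁ ≤ q →
        C * (q : ℝ) ^ (m + 1) ≤ (hdim k X (CohB1.tensorMod (CohB1.tensorMod F
          (CohB1.tensorPow (CohB1.tensorMod (CohB1.tensorPow L a) B) q)) (CohB1.tensorPow B' (c * q))) 0 : ℝ) := by
  haveI := isNoetherian_of_proper (X := X) k
  obtain ⟨e, he, σ, hx, -, -⟩ := exists_locus_le hH (show genericPoint X ∈ (⊤ : X.Opens) from trivial)
  let B := CohB1.tensorPow H e
  have hB : CohB1.IsAmple B := InvPow.isAmple_pow hH he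
  have hσ : σ ≠ 0 := ne_zero_of_mem_genOpen (isInvertible_tensorPow hH.1 e) hx
  obtain ⟨B', hB'⟩ := NegVanish.exists_inverse hB.1
  let O := Coh.structureModule X
  have hO : Coh.IsCoh O := isCoh_of_isInvertible (HilbPoly.isInvertible_structureModule X)
  let J : ℕ → ℕ → ℝ := fun i j => (inum k (List.replicate i L ++ List.replicate j B) O : ℝ)
  have hJ : ∀ i j, i + j = m + 1 → 0 ≤ J i j := fun i j h =>
    Int.cast_nonneg_iff.mpr (nonneg_aux k (m + 1) X L B hL hB hnef hX i j h)
  obtain ⟨t₀, -, ht₀⟩ := isCompact_Icc.exists_isMaxOn (Set.nonempty_Icc.mpr (zero_le_one (α := ℝ)))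
    (continuous_mixed J m 0 1).continuousOn
  have hJ0 : 0 < J (m + 1) 0 := Int.cast_pos.mpr (by simpa using hpos)
  obtain ⟨a, ha⟩ := exists_nat_gt (max 1 (2 * ((m : ℝ) + 1) * mixed J m 0 1 t₀ / J (m + 1) 0))
  have ha1 : (1 : ℝ) < a := (le_max_left _ _).trans_lt ha
  have ha0 : 0 < a := by exact_mod_cast zero_lt_one.trans ha1
  have ha2 : 2 * ((m : ℝ) + 1) * mixed J m 0 1 t₀ < (a : ℝ) * J (m + 1) 0 := by
    have := (le_max_right _ _).trans_lt ha
    rwa [div_lt_iff₀ hJ0] at this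
  let A := CohB1.tensorMod (CohB1.tensorPow L a) B
  have hA : CohB1.IsAmple A := by
    obtain ⟨o⟩ := nonempty_pow_one_iso hB.1
    exact InvPow.isAmple_of_iso (ProjTwist.nonempty_tensorMod_iso (Iso.refl _) o).some
      (isAmple_tensor_of_nef k hL hB hnef ha0 one_pos)
  have hAinv : PicF.IsInvertible A := isInvertible_tensorMod (isInvertible_tensorPow hL a) hB.1
  obtain ⟨o⟩ := nonempty_pow_one_iso hB.1
  have heq := inum_rep_eq k (L := L) (A := B) (M := A) hL hB.1 hAinv ha0
    ⟨(ProjTwist.nonempty_tensorMod_iso (Iso.refl (CohB1.tensorPow L a)) o.symm).some⟩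
  have hJK : (fun i j => (inum k (rep A L B 0 i j) O : ℝ)) = J := rfl
  have hu : (((1 : ℕ) : ℝ) / a) ∈ Set.Icc (0 : ℝ) 1 := ⟨by positivity, by
    rw [Nat.cast_one, div_le_one (zero_lt_one.trans ha1)]; exact ha1.le⟩
  have h1 : (inum k (List.replicate (m + 1) A) O : ℝ) = (a : ℝ) ^ (m + 1) * mixed J (m + 1) 0 0 (((1 : ℕ) : ℝ) / a) := by
    have := heq (m + 1) 0 0 (by rw [hX])
    rw [hJK] at this
    simpa [rep] using this
  have h2 : (inum k (B :: List.replicate m A) O : ℝ) = (a : ℝ) ^ m * mixed J m 0 1 (((1 : ℕ) : ℝ) / a) := by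
    have := heq m 0 1 (by rw [hX])
    rw [hJK] at this
    rw [← inum_perm k (l := rep A L B m 0 1) ?_ (inv_rep hAinv hL hB.1 m 0 1)]
    · exact this
    · simp [rep]
  have h3 : J (m + 1) 0 ≤ mixed J (m + 1) 0 0 (((1 : ℕ) : ℝ) / a) := by
    have := le_mixed (I := J) (fun i j _ h => hJ i j h) (m + 1) 0 rfl _ hu.1
    simpa using this
  have h4 := ht₀ hu
  have h5 : 0 ≤ mixed J m 0 1 (((1 : ℕ) : ℝ) / a) :=
    mixed_nonneg (fun i j _ h => hJ i j h) m 0 1 one_pos (by omega) _ hu.1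
  refine ⟨B, B', σ, a, hB, hB', hσ, ha0, fun c hc F hF => siu k hX hA hB hB' σ hσ c ?_ hF⟩
  rw [← Int.cast_lt (R := ℝ)]
  push_cast
  rw [h1, h2]
  have hapow : (0 : ℝ) < (a : ℝ) ^ m := pow_pos (zero_lt_one.trans ha1) m
  have hc2 : (c : ℝ) ≤ 2 := by exact_mod_cast hc
  have h6 : ((m : ℝ) + 1) * c * mixed J m 0 1 (((1 : ℕ) : ℝ) / a) < (a : ℝ) * mixed J (m + 1) 0 0 (((1 : ℕ) : ℝ) / a) := by
    have i1 : ((m : ℝ) + 1) * c * mixed J m 0 1 (((1 : ℕ) : ℝ) / a) ≤ ((m : ℝ) + 1) * 2 * mixed J m 0 1 t₀ :=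
      mul_le_mul (mul_le_mul_of_nonneg_left hc2 (by positivity)) h4 h5 (by positivity)
    have i2 := mul_le_mul_of_nonneg_left h3 (zero_lt_one.trans ha1).le
    linarith
  calc ((m : ℝ) + 1) * c * ((a : ℝ) ^ m * mixed J m 0 1 (((1 : ℕ) : ℝ) / a))
      = (a : ℝ) ^ m * (((m : ℝ) + 1) * c * mixed J m 0 1 (((1 : ℕ) : ℝ) / a)) := by ring
    _ < (a : ℝ) ^ m * ((a : ℝ) * mixed J (m + 1) 0 0 (((1 : ℕ) : ℝ) / a)) := mul_lt_mul_of_pos_left h6 hapow
    _ = _ := by ring

theorem exists_section_of_hdim_pos {M : X.Modules} (hM : Coh.IsCoh M) (h : 0 < hdim k X M 0) :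
    ∃ s : Γ(M, ⊤), s ≠ 0 := by
  simp only [HilbPoly.hdim, Nat.cast_pos] at h
  have := finite_HH (k := k) hM 0
  exact nonzero_section_of_HH (Module.nontrivial_of_finrank_pos (R := k) h)

/-- `L^ν` receives an ample module. -/
theorem exists_mono_of_pos [IsIntegral X] {n : ℕ} (hX : topologicalKrullDim X = (n : WithBot ℕ∞))
    {H : X.Modules} (hH : CohB1.IsAmple H) {L : X.Modules} (hL : PicF.IsInvertible L) (hnef : Nef k L)
    (hpos : 0 < inum k (List.replicate n L) (Coh.structureModule X)) :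
    ∃ (ν : ℕ) (A : X.Modules) (φ : A ⟶ CohB1.tensorPow L ν), 0 < ν ∧ CohB1.IsAmple A ∧ Mono φ := by
  haveI := isNoetherian_of_proper (X := X) k
  rcases n with - | m
  · have hLamp : CohB1.IsAmple L := isAmple_of_inumOn_pos k hL fun W j _ _ d hd hW => by
      have h : topologicalKrullDim W ≤ topologicalKrullDim X := by
        rw [dim_source j]
        exact topologicalKrullDim_subspace_le X _
      rw [hW, hX] at h
      exact absurd (Nat.cast_le.mp h) (by omega)
    obtain ⟨o⟩ := nonempty_pow_one_iso hL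
    exact ⟨1, L, o.inv, one_pos, hLamp, inferInstance⟩
  obtain ⟨B, B', -, a, hB, hB', -, ha, hgrow⟩ := exists_growth_of_pos k hX hH hL hnef hpos
  obtain ⟨C, hC, q₁, hq⟩ := hgrow 2 le_rfl _ (HilbPoly.isInvertible_structureModule X)
  have hq0 : 0 < q₁ + 1 := Nat.succ_pos _
  have h := hq (q₁ + 1) (Nat.le_succ _)
  set q := q₁ + 1
  have hLa := isInvertible_tensorPow hL a
  have hA := isInvertible_tensorMod hLa hB.1
  have hB'i := NegVanish.isInvertible_of_inverse hB.1 hB'
  set N := CohB1.tensorMod (CohB1.tensorMod (Coh.structureModule X)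
    (CohB1.tensorPow (CohB1.tensorMod (CohB1.tensorPow L a) B) q)) (CohB1.tensorPow B' (2 * q)) with hN
  have hNi : PicF.IsInvertible N := isInvertible_tensorMod
    (isInvertible_tensorMod (HilbPoly.isInvertible_structureModule X) (isInvertible_tensorPow hA q))
    (isInvertible_tensorPow hB'i _)
  have hhd : 0 < hdim k X N 0 := Int.cast_pos.mp
    ((mul_pos hC (pow_pos (Nat.cast_pos.mpr hq0) _)).trans_le h)
  obtain ⟨s, hs⟩ := exists_section_of_hdim_pos k (isCoh_of_isInvertible hNi) hhd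
  haveI : Mono (mulSection (CohB1.tensorPow B q) s) :=
    mono_mulSection_invertible (isInvertible_tensorPow hB.1 q) hNi s (genOpen_nonempty_of_ne_zero hNi hs)
  have hLaq := isInvertible_tensorPow hLa q
  have hBq := isInvertible_tensorPow hB.1 q
  obtain ⟨p1⟩ := nonempty_tensor_pow_iso hLa hB.1 q
  obtain ⟨p2⟩ := nonempty_pow_mul_iso hL a q
  obtain ⟨u⟩ := ProjTwist.nonempty_tensorMod_comm (Coh.structureModule X) (CohB1.tensorPow (CohB1.tensorMod (CohB1.tensorPow L a) B) q)
  obtain ⟨a₁⟩ := nonempty_assoc (CohB1.tensorPow (CohB1.tensorPow L a) q) hBq (isInvertible_tensorPow hB'i (2 * q))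
  obtain ⟨a₂⟩ := nonempty_assoc (CohB1.tensorPow B q) hLaq (isInvertible_tensorMod hBq (isInvertible_tensorPow hB'i (2 * q)))
  obtain ⟨c₂⟩ := ProjTwist.nonempty_tensorMod_comm (CohB1.tensorPow B q) (CohB1.tensorPow (CohB1.tensorPow L a) q)
  obtain ⟨a₃⟩ := nonempty_assoc (CohB1.tensorPow (CohB1.tensorPow L a) q) hBq (isInvertible_tensorMod hBq (isInvertible_tensorPow hB'i (2 * q)))
  obtain ⟨a₄⟩ := nonempty_assoc (CohB1.tensorPow B q) hBq (isInvertible_tensorPow hB'i (2 * q))
  obtain ⟨r⟩ := nonempty_pow_add_iso hB.1 q q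
  obtain ⟨e⟩ := NegVanish.isInverseOf_pow hB.1 hB' (2 * q)
  have i : CohB1.tensorMod (CohB1.tensorPow B q) N ≅ CohB1.tensorPow L (a * q) :=
    (ProjTwist.nonempty_tensorMod_iso (Iso.refl _)
      ((ProjTwist.nonempty_tensorMod_iso (u ≪≫ SecTwist.unitorR _ ≪≫ p1) (Iso.refl _)).some ≪≫ a₁.symm)).some ≪≫
    a₂ ≪≫ (ProjTwist.nonempty_tensorMod_iso c₂ (Iso.refl _)).some ≪≫ a₃.symm ≪≫
    (ProjTwist.nonempty_tensorMod_iso p2 (a₄ ≪≫
      (ProjTwist.nonempty_tensorMod_iso (r ≪≫ eqToIso (by rw [two_mul])) (Iso.refl _)).some ≪≫ e)).some ≪≫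
    SecTwist.unitorR _
  exact ⟨a * q, CohB1.tensorPow B q, mulSection (CohB1.tensorPow B q) s ≫ i.hom, Nat.mul_pos ha hq0,
    InvPow.isAmple_pow hB hq0, inferInstance⟩

/-- An ample module inside a power of a nef module makes it big. -/
theorem pos_of_section_twist [IsIntegral X] {n : ℕ} (hX : topologicalKrullDim X = (n : WithBot ℕ∞))
    {L A A' : X.Modules} (hL : PicF.IsInvertible L) (hnef : Nef k L) (hA : CohB1.IsAmple A)
    (hA' : ClSub.IsInverseOf A A') {ν : ℕ} (σ : Γ(CohB1.tensorMod (CohB1.tensorPow L ν) A', ⊤)) (hσ : σ ≠ 0) :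
    0 < inum k (List.replicate n L) (Coh.structureModule X) := by
  haveI := isNoetherian_of_proper (X := X) k
  let O := Coh.structureModule X
  have hO : Coh.IsCoh O := isCoh_of_isInvertible (HilbPoly.isInvertible_structureModule X)
  have hA'i := NegVanish.isInvertible_of_inverse hA.1 hA'
  have hLν := isInvertible_tensorPow hL ν
  let M := CohB1.tensorMod (CohB1.tensorPow L ν) A'
  have hM : PicF.IsInvertible M := isInvertible_tensorMod hLν hA'i
  obtain ⟨a⟩ := nonempty_assoc (CohB1.tensorPow L ν) hA'i hA.1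
  obtain ⟨c⟩ := ProjTwist.nonempty_tensorMod_comm A' A
  have hMA : CohB1.tensorMod M A ≅ CohB1.tensorPow L ν := a.symm ≪≫
    (ProjTwist.nonempty_tensorMod_iso (Iso.refl _) (c ≪≫ hA'.some)).some ≪≫ SecTwist.unitorR _
  suffices key : ∀ i j : ℕ, i + j = n → 0 < inum k (List.replicate i L ++ List.replicate j A) O by
    simpa using key n 0 rfl
  intro i
  induction i with
  | zero =>
    intro j hj
    obtain rfl : j = n := by omega
    simpa using inum_pos_of_isAmple k hA hX
  | succ i ih =>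
    intro j hj
    let l := List.replicate i L ++ List.replicate j A
    have hl : Inv l := fun B hB => by
      rcases List.mem_append.mp hB with h | h
      exacts [Inv.replicate hL i B h, Inv.replicate hA.1 j B h]
    have hlen : l.length + 1 = n := by simp [l]; omega
    have hd : topologicalKrullDim (CohB1.support O) ≤ ((l.length + 1 : ℕ) : WithBot ℕ∞) := by
      rw [hlen]
      exact (topologicalKrullDim_subspace_le X _).trans hX.le
    obtain ⟨hQ, hQd, -, hcut⟩ := inum_cut k hM σ hσ hl (by rw [hlen, hX])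
    have hnn : 0 ≤ inum k (M :: l) O := by
      rw [hcut]
      refine inum_nonneg k hl hQ hQd fun W w _ _ _ hW => ?_
      exact inumOn_nonneg_of_nef k hL hA hnef w (by rw [hW]; simp [l])
    have h1 : inum k (CohB1.tensorPow L ν :: l) O = inum k (M :: l) O + inum k (A :: l) O := by
      rw [← inum_head_congr k hMA, inum_head_tensor k hM hA.1 hl hO hd]
    have h2 : 0 < inum k (A :: l) O := by
      have := ih (j + 1) (by omega)
      rwa [List.replicate_succ, inum_perm k List.perm_middle (fun B hB => by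
        rcases List.mem_append.mp hB with h | h
        · exact Inv.replicate hL i B h
        · exact ((Inv.replicate hA.1 j).cons hA.1) B h)] at this
    rw [inum_head_pow k hL hl hO hd ν] at h1
    have h3 : 0 < (ν : ℤ) * inum k (L :: l) O := by linarith
    show 0 < inum k (L :: l) O
    exact pos_of_mul_pos_right h3 (Int.natCast_nonneg _)

/-- A monomorphism `A ⟶ L^ν` gives a section of `L^ν ⊗ A⁻¹`. -/
theorem pos_of_mono [IsIntegral X] {n : ℕ} (hX : topologicalKrullDim X = (n : WithBot ℕ∞))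
    {L A : X.Modules} (hL : PicF.IsInvertible L) (hnef : Nef k L) (hA : CohB1.IsAmple A)
    {ν : ℕ} (φ : A ⟶ CohB1.tensorPow L ν) [Mono φ] :
    0 < inum k (List.replicate n L) (Coh.structureModule X) := by
  obtain ⟨A', hA'⟩ := NegVanish.exists_inverse hA.1
  have hA'i := NegVanish.isInvertible_of_inverse hA.1 hA'
  haveI := mono_tMap φ hA'i
  let s : Coh.structureModule X ⟶ CohB1.tensorMod (CohB1.tensorPow L ν) A' := hA'.some.inv ≫ tMap φ A'
  have hs : s ≠ 0 := fun h => by
    have hz : IsZero (Coh.structureModule X) := IsZero.of_mono_eq_zero s h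
    have := support_eq_empty_of_isZero hz
    rw [support_structureModule] at this
    exact Set.empty_ne_univ this.symm
  obtain ⟨σ, hσ⟩ := globalHom_ne_zero hs
  exact pos_of_section_twist k hX hL hnef hA hA' σ hσ

end Groth.Agent.IntTh
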