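import Groth.Agent.IntTh.BigGrowth

/-!
# The characterisations of bigness
-/

universe u

open CategoryTheory CategoryTheory.Limits AlgebraicGeometry Opposite TopologicalSpace Filter

set_option backward.isDefEq.respectTransparency false
set_option maxHeartbeats 1600000

namespace Groth.Agent.IntTh

open InvBasic ProjUniv Groth.Agent.InvPow Groth.Agent.QCohLib Groth.Agent.HilbPoly Groth.Agent.CurveDeg Groth.Agent.CohFinite

variable (k : Type u) [Field k] {X : Scheme.{u}} [X.Over (Spec (CommRingCat.of k))]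
  [IsProper (X ↘ Spec (CommRingCat.of k))]

/-- A monomorphism from an ample module into a power of `L` gives sections in all large degrees. -/
theorem exists_growth_all_of_mono [IsIntegral X] {n : ℕ} (hX : topologicalKrullDim X = (n : WithBot ℕ∞))
    {L A : X.Modules} (hL : PicF.IsInvertible L) (hA : CohB1.IsAmple A) {ν : ℕ} (hν : 0 < ν)
    (φ : A ⟶ CohB1.tensorPow L ν) [Mono φ] :
    ∃ C : ℝ, 0 < C ∧ ∃ m₁ : ℕ, ∀ m : ℕ, m₁ ≤ m →
      C * (m : ℝ) ^ n ≤ (hdim k X (CohB1.tensorPow L m) 0 : ℝ) := by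
  haveI := isNoetherian_of_proper (X := X) k
  obtain ⟨A', hA'⟩ := NegVanish.exists_inverse hA.1
  have hA'i := NegVanish.isInvertible_of_inverse hA.1 hA'
  haveI := mono_tMap φ hA'i
  let M := CohB1.tensorMod (CohB1.tensorPow L ν) A'
  have hLν := isInvertible_tensorPow hL ν
  have hM : PicF.IsInvertible M := InvPow.isInvertible_tensorMod hLν hA'i
  obtain ⟨σ, hσ⟩ : ∃ σ : Γ(M, ⊤), σ ≠ 0 := by
    refine globalHom_ne_zero (s := hA'.some.inv ≫ tMap φ A') fun h => ?_
    have hz : IsZero (Coh.structureModule X) := IsZero.of_mono_eq_zero (hA'.some.inv ≫ tMap φ A') h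
    have := support_eq_empty_of_isZero hz
    rw [support_structureModule] at this
    exact Set.empty_ne_univ this.symm
  -- `h⁰(L^r ⊗ A^q) ≤ h⁰(L^{r + νq})`
  have hle : ∀ r q, 0 < q → hdim k X (CohB1.tensorMod (CohB1.tensorPow L r) (CohB1.tensorPow A q)) 0 ≤
      hdim k X (CohB1.tensorPow L (r + ν * q)) 0 := by
    intro r q hq
    have hMq := isInvertible_tensorPow hM q
    obtain ⟨σ₁, hσ₁⟩ := exists_gen_pow_one hM σ
    have key : ∀ N, 1 * q = N → ∃ t : Γ(CohB1.tensorPow M N, ⊤),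
        (genOpen (isInvertible_tensorPow hM N) t : Set X).Nonempty := by
      rintro _ rfl
      exact ⟨spow hM σ₁ q, by rw [genOpen_spow hM σ₁ hq, hσ₁]; exact genOpen_nonempty_of_ne_zero hM hσ⟩
    obtain ⟨s, hs⟩ := key q (one_mul q)
    have hG := InvPow.isInvertible_tensorMod (isInvertible_tensorPow hL r) (isInvertible_tensorPow hA.1 q)
    set G := CohB1.tensorMod (CohB1.tensorPow L r) (CohB1.tensorPow A q) with hGdef
    haveI : Mono (mulSection G s) := mono_mulSection_invertible hG hMq s hs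
    have hco : Coh.IsCoh (CohB1.tensorMod G (CohB1.tensorPow M q)) :=
      HilbPoly.isCoh_tensorMod (isCoh_of_isInvertible hG) hMq
    obtain ⟨h1, -⟩ := hdim_zero_le k (CohFinite.shortExact_cokernel (mulSection G s)) hco
      (isCoh_of_isInvertible hG) (QCohLib.isCoh_cokernel _ (isCoh_of_isInvertible hG).1 hco)
    have hA'q := isInvertible_tensorPow hA'i q
    obtain ⟨p1⟩ := nonempty_tensor_pow_iso hLν hA'i q
    obtain ⟨p2⟩ := nonempty_pow_mul_iso hL ν q
    obtain ⟨p3⟩ := nonempty_pow_add_iso hL r (ν * q)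
    obtain ⟨c⟩ := ProjTwist.nonempty_tensorMod_comm (CohB1.tensorPow (CohB1.tensorPow L ν) q) (CohB1.tensorPow A' q)
    obtain ⟨a⟩ := nonempty_assoc (CohB1.tensorPow A q) hA'q (isInvertible_tensorPow hLν q)
    obtain ⟨a₀⟩ := nonempty_assoc (CohB1.tensorPow L r) (isInvertible_tensorPow hA.1 q) hMq
    obtain ⟨e⟩ := NegVanish.isInverseOf_pow hA.1 hA' q
    have i : CohB1.tensorMod G (CohB1.tensorPow M q) ≅ CohB1.tensorPow L (r + ν * q) :=
      a₀.symm ≪≫ (ProjTwist.nonempty_tensorMod_iso (Iso.refl _)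
        ((ProjTwist.nonempty_tensorMod_iso (Iso.refl _) (p1 ≪≫ c)).some ≪≫ a ≪≫
          (ProjTwist.nonempty_tensorMod_iso e (Iso.refl _)).some ≪≫
          (ProjTwist.nonempty_tensorMod_comm _ _).some ≪≫ SecTwist.unitorR _ ≪≫ p2)).some ≪≫ p3
    exact h1.trans (hdim_congr k i 0).le
  set β : ℝ := (inum k (List.replicate n A) (Coh.structureModule X) : ℝ) / (n.factorial : ℝ) with hβ
  have hβpos : 0 < β := div_pos (Int.cast_pos.mpr (inum_pos_of_isAmple k hA hX)) (by exact_mod_cast n.factorial_pos)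
  have hd : ∀ S : Set X, topologicalKrullDim S ≤ (n : WithBot ℕ∞) := fun S =>
    (topologicalKrullDim_subspace_le X S).trans hX.le
  have hev : ∀ r : Fin ν, ∃ q₁, ∀ q, q₁ ≤ q → β / 2 <
      (hdim k X (CohB1.tensorMod (CohB1.tensorPow L r.1) (CohB1.tensorPow A q)) 0 : ℝ) / (q : ℝ) ^ n := by
    intro r
    have hO : Coh.IsCoh (Coh.structureModule X) := isCoh_of_isInvertible (HilbPoly.isInvertible_structureModule X)
    have hLr := isInvertible_tensorPow hL r.1
    have h0 := inum_eq_zero_of_dim k ((Inv.replicate hA.1 n).cons hLr) hO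
      ((hd _).trans_lt (by rw [List.length_cons, List.length_replicate]; exact_mod_cast Nat.lt_succ_self n))
    rw [inum, inum_congr k _ ((ProjTwist.nonempty_tensorMod_comm _ _).some ≪≫ SecTwist.unitorR _)] at h0
    have t := tendsto_hdim_pow k hA (isCoh_of_isInvertible hLr) (hd _)
    rw [show inum k (List.replicate n A) (CohB1.tensorPow L r.1) =
      inum k (List.replicate n A) (Coh.structureModule X) by linarith] at t
    exact eventually_atTop.mp (t.eventually_const_lt (half_lt_self hβpos))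
  choose q₁ hq₁ using hev
  let Q := Finset.univ.sup q₁
  refine ⟨β / 2 / (2 * (ν : ℝ)) ^ n, div_pos (half_pos hβpos) (pow_pos (by positivity) _), ν * (Q + 1), fun m hm => ?_⟩
  let r : Fin ν := ⟨m % ν, Nat.mod_lt m hν⟩
  let q := m / ν
  have hmq : ν * q + r.1 = m := Nat.div_add_mod m ν
  have hqQ : Q + 1 ≤ q := (Nat.le_div_iff_mul_le hν).mpr (by rw [Nat.mul_comm]; exact hm)
  have h := hq₁ r q ((Finset.le_sup (Finset.mem_univ r)).trans (by omega))
  rw [lt_div_iff₀ (pow_pos (by exact_mod_cast (show 0 < q by omega)) n)] at h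
  have h2 := hle r.1 q (by omega)
  rw [show r.1 + ν * q = m by omega] at h2
  have hm2 : (m : ℝ) ≤ 2 * ν * q := by
    have : m ≤ 2 * ν * q := by
      have := r.2
      have : ν ≤ ν * q := Nat.le_mul_of_pos_right ν (by omega)
      nlinarith
    exact_mod_cast this
  refine le_trans ?_ (h.le.trans (Int.cast_le.mpr h2))
  rw [div_mul_eq_mul_div, div_le_iff₀ (by positivity)]
  calc β / 2 * (m : ℝ) ^ n ≤ β / 2 * (2 * ν * q : ℝ) ^ n :=
        mul_le_mul_of_nonneg_left (pow_le_pow_left₀ (Nat.cast_nonneg m) hm2 _) (half_pos hβpos).le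
    _ = β / 2 * (q : ℝ) ^ n * (2 * ν : ℝ) ^ n := by rw [mul_pow]; ring

include k in
/-- Once some ample module maps into a power of `L`, every ample module does. -/
theorem exists_mono_all_of_mono [IsIntegral X] {n : ℕ} (hX : topologicalKrullDim X = (n : WithBot ℕ∞))
    {L B : X.Modules} (hL : PicF.IsInvertible L) (hB : CohB1.IsAmple B) {ν : ℕ} (hν : 0 < ν)
    (φ : B ⟶ CohB1.tensorPow L ν) [Mono φ] {A : X.Modules} (hA : CohB1.IsAmple A) :
    ∃ (m : ℕ) (ψ : A ⟶ CohB1.tensorPow L m), 0 < m ∧ Mono ψ := by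
  haveI := isNoetherian_of_proper (X := X) k
  obtain ⟨A', hA'⟩ := NegVanish.exists_inverse hA.1
  have hA'i := NegVanish.isInvertible_of_inverse hA.1 hA'
  obtain ⟨B', hB'⟩ := NegVanish.exists_inverse hB.1
  have hB'i := NegVanish.isInvertible_of_inverse hB.1 hB'
  haveI := mono_tMap φ hB'i
  let M := CohB1.tensorMod (CohB1.tensorPow L ν) B'
  have hLν := isInvertible_tensorPow hL ν
  have hM : PicF.IsInvertible M := InvPow.isInvertible_tensorMod hLν hB'i
  obtain ⟨σ, hσ⟩ : ∃ σ : Γ(M, ⊤), σ ≠ 0 := by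
    refine globalHom_ne_zero (s := hB'.some.inv ≫ tMap φ B') fun h => ?_
    have hz : IsZero (Coh.structureModule X) := IsZero.of_mono_eq_zero (hB'.some.inv ≫ tMap φ B') h
    have := support_eq_empty_of_isZero hz
    rw [support_structureModule] at this
    exact Set.empty_ne_univ this.symm
  -- a large power of `B` minus `A` has a section
  have hd : ∀ S : Set X, topologicalKrullDim S ≤ (n : WithBot ℕ∞) := fun S =>
    (topologicalKrullDim_subspace_le X S).trans hX.le
  have hO : Coh.IsCoh (Coh.structureModule X) := isCoh_of_isInvertible (HilbPoly.isInvertible_structureModule X)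
  have h0 := inum_eq_zero_of_dim k ((Inv.replicate hB.1 n).cons hA'i) hO
    ((hd _).trans_lt (by rw [List.length_cons, List.length_replicate]; exact_mod_cast Nat.lt_succ_self n))
  rw [inum, inum_congr k _ ((ProjTwist.nonempty_tensorMod_comm _ _).some ≪≫ SecTwist.unitorR _)] at h0
  have t := tendsto_hdim_pow k hB (isCoh_of_isInvertible hA'i) (hd _)
  rw [show inum k (List.replicate n B) A' = inum k (List.replicate n B) (Coh.structureModule X) by linarith] at t
  have hpos : (0 : ℝ) < (inum k (List.replicate n B) (Coh.structureModule X) : ℝ) / (n.factorial : ℝ) :=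
    div_pos (Int.cast_pos.mpr (inum_pos_of_isAmple k hB hX)) (by exact_mod_cast n.factorial_pos)
  obtain ⟨q, hq⟩ := eventually_atTop.mp (t.eventually_const_lt hpos)
  have hq' := hq (q + 1) (Nat.le_succ q)
  set p := q + 1
  rw [lt_div_iff₀ (pow_pos (Nat.cast_pos.mpr (Nat.succ_pos q)) n), zero_mul] at hq'
  have hBp := isInvertible_tensorPow hB.1 p
  have hG := InvPow.isInvertible_tensorMod hA'i hBp
  obtain ⟨s, hs⟩ := exists_section_of_hdim_pos k (isCoh_of_isInvertible hG) (Int.cast_pos.mp hq')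
  haveI : Mono (mulSection A s) := mono_mulSection_invertible hA.1 hG s (genOpen_nonempty_of_ne_zero hG hs)
  obtain ⟨a₁⟩ := nonempty_assoc A hA'i hBp
  let f : A ⟶ CohB1.tensorPow B p := mulSection A s ≫
    (a₁ ≪≫ (ProjTwist.nonempty_tensorMod_iso hA'.some (Iso.refl _)).some ≪≫
      (ProjTwist.nonempty_tensorMod_comm _ _).some ≪≫ SecTwist.unitorR _).hom
  -- and `B^p` maps into `L^{νp}`
  have hMp := isInvertible_tensorPow hM p
  obtain ⟨σ₁, hσ₁⟩ := exists_gen_pow_one hM σ
  have key : ∀ N, 1 * p = N → ∃ t : Γ(CohB1.tensorPow M N, ⊤),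
      (genOpen (isInvertible_tensorPow hM N) t : Set X).Nonempty := by
    rintro _ rfl
    exact ⟨spow hM σ₁ p, by rw [genOpen_spow hM σ₁ (Nat.succ_pos q), hσ₁]; exact genOpen_nonempty_of_ne_zero hM hσ⟩
  obtain ⟨τ, hτ⟩ := key p (one_mul p)
  haveI : Mono (mulSection (CohB1.tensorPow B p) τ) := mono_mulSection_invertible hBp hMp τ hτ
  have hB'p := isInvertible_tensorPow hB'i p
  obtain ⟨p1⟩ := nonempty_tensor_pow_iso hLν hB'i p
  obtain ⟨p2⟩ := nonempty_pow_mul_iso hL ν p
  obtain ⟨c⟩ := ProjTwist.nonempty_tensorMod_comm (CohB1.tensorPow (CohB1.tensorPow L ν) p) (CohB1.tensorPow B' p)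
  obtain ⟨a⟩ := nonempty_assoc (CohB1.tensorPow B p) hB'p (isInvertible_tensorPow hLν p)
  obtain ⟨e⟩ := NegVanish.isInverseOf_pow hB.1 hB' p
  let g : CohB1.tensorPow B p ⟶ CohB1.tensorPow L (ν * p) := mulSection (CohB1.tensorPow B p) τ ≫
    ((ProjTwist.nonempty_tensorMod_iso (Iso.refl _) (p1 ≪≫ c)).some ≪≫ a ≪≫
      (ProjTwist.nonempty_tensorMod_iso e (Iso.refl _)).some ≪≫
      (ProjTwist.nonempty_tensorMod_comm _ _).some ≪≫ SecTwist.unitorR _ ≪≫ p2).hom
  haveI : Mono f := mono_comp _ _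
  haveI : Mono g := mono_comp _ _
  exact ⟨ν * p, f ≫ g, Nat.mul_pos hν (Nat.succ_pos q), inferInstance⟩

end Groth.Agent.IntTh
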