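import Groth.Agent.IntTh.SelfInt
import Groth.Agent.S2329

/-!
# Maximal growth of sections and ample submodules of powers
-/

universe u

open CategoryTheory CategoryTheory.Limits AlgebraicGeometry Opposite TopologicalSpace Filter

set_option backward.isDefEq.respectTransparency false
set_option maxHeartbeats 1600000

namespace Groth.Agent.IntTh

open InvBasic ProjUniv Groth.Agent.InvPow Groth.Agent.QCohLib Groth.Agent.HilbPoly Groth.Agent.CurveDeg Groth.Agent.CohFinite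

variable (k : Type u) [Field k] {X : Scheme.{u}} [X.Over (Spec (CommRingCat.of k))]
  [IsProper (X ↘ Spec (CommRingCat.of k))]

/-- A monomorphism from an ample module gives maximal growth, uniformly in all degrees of a multiple. -/
theorem exists_growth_of_mono [IsIntegral X] {n : ℕ} (hX : topologicalKrullDim X = (n : WithBot ℕ∞))
    {L A : X.Modules} (hL : PicF.IsInvertible L) (hA : CohB1.IsAmple A) {ν : ℕ} (hν : 0 < ν)
    (φ : A ⟶ CohB1.tensorPow L ν) [Mono φ] :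
    ∃ ν' a : ℕ, 0 < ν' ∧ 0 < a ∧ ∀ μ : ℕ, 1 ≤ μ →
      (μ : ℤ) ^ n ≤ (a : ℤ) * hdim k X (CohB1.tensorPow L (ν' * μ)) 0 := by
  haveI := isNoetherian_of_proper (X := X) k
  obtain ⟨A', hA'⟩ := NegVanish.exists_inverse hA.1
  have hA'i := NegVanish.isInvertible_of_inverse hA.1 hA'
  haveI := mono_tMap φ hA'i
  let M := CohB1.tensorMod (CohB1.tensorPow L ν) A'
  have hLν := isInvertible_tensorPow hL ν
  have hM : PicF.IsInvertible M := InvPow.isInvertible_tensorMod hLν hA'i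
  obtain ⟨σ, hσ⟩ : ∃ σ : Γ(M, ⊤), σ ≠ 0 := by
    refine globalHom_ne_zero (s := hA'.some.inv ≫ tMap φ A') fun h => ?_
    have hz : IsZero (Coh.structureModule X) := IsZero.of_mono_eq_zero (hA'.some.inv ≫ tMap φ A') h
    have := support_eq_empty_of_isZero hz
    rw [support_structureModule] at this
    exact Set.empty_ne_univ this.symm
  -- `h⁰(A^j) ≤ h⁰(L^{νj})`
  have hle : ∀ j, 0 < j → hdim k X (CohB1.tensorPow A j) 0 ≤ hdim k X (CohB1.tensorPow L (ν * j)) 0 := by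
    intro j hj
    have hAj := isInvertible_tensorPow hA.1 j
    have hMj := isInvertible_tensorPow hM j
    obtain ⟨s, hs⟩ : ∃ s : Γ(CohB1.tensorPow M j, ⊤), (genOpen hMj s : Set X).Nonempty := by
      obtain ⟨σ₁, hσ₁⟩ := exists_gen_pow_one hM σ
      have key : ∀ N, 1 * j = N → ∃ t : Γ(CohB1.tensorPow M N, ⊤),
          (genOpen (isInvertible_tensorPow hM N) t : Set X).Nonempty := by
        rintro _ rfl
        exact ⟨spow hM σ₁ j, by rw [genOpen_spow hM σ₁ hj, hσ₁]; exact genOpen_nonempty_of_ne_zero hM hσ⟩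
      exact key j (one_mul j)
    haveI : Mono (mulSection (CohB1.tensorPow A j) s) := mono_mulSection_invertible hAj hMj s hs
    have hco : Coh.IsCoh (CohB1.tensorMod (CohB1.tensorPow A j) (CohB1.tensorPow M j)) :=
      HilbPoly.isCoh_tensorMod (isCoh_of_isInvertible hAj) hMj
    obtain ⟨h1, -⟩ := hdim_zero_le k (CohFinite.shortExact_cokernel (mulSection (CohB1.tensorPow A j) s)) hco
      (isCoh_of_isInvertible hAj) (QCohLib.isCoh_cokernel _ (isCoh_of_isInvertible hAj).1 hco)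
    have hA'j := isInvertible_tensorPow hA'i j
    obtain ⟨p1⟩ := nonempty_tensor_pow_iso hLν hA'i j
    obtain ⟨p2⟩ := nonempty_pow_mul_iso hL ν j
    obtain ⟨c⟩ := ProjTwist.nonempty_tensorMod_comm (CohB1.tensorPow (CohB1.tensorPow L ν) j) (CohB1.tensorPow A' j)
    obtain ⟨a⟩ := nonempty_assoc (CohB1.tensorPow A j) hA'j (isInvertible_tensorPow hLν j)
    obtain ⟨e⟩ := NegVanish.isInverseOf_pow hA.1 hA' j
    have i : CohB1.tensorMod (CohB1.tensorPow A j) (CohB1.tensorPow M j) ≅ CohB1.tensorPow L (ν * j) :=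
      (ProjTwist.nonempty_tensorMod_iso (Iso.refl _) (p1 ≪≫ c)).some ≪≫ a ≪≫
        (ProjTwist.nonempty_tensorMod_iso e (Iso.refl _)).some ≪≫
        (ProjTwist.nonempty_tensorMod_comm _ _).some ≪≫ SecTwist.unitorR _ ≪≫ p2
    exact h1.trans (hdim_congr k i 0).le
  -- the growth of `h⁰(A^j)`
  have hO : Coh.IsCoh (Coh.structureModule X) := isCoh_of_isInvertible (HilbPoly.isInvertible_structureModule X)
  have t := tendsto_hdim_pow k hA hO ((topologicalKrullDim_subspace_le X _).trans hX.le)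
  set β : ℝ := (inum k (List.replicate n A) (Coh.structureModule X) : ℝ) / (n.factorial : ℝ) with hβ
  have hβpos : 0 < β := div_pos (Int.cast_pos.mpr (inum_pos_of_isAmple k hA hX)) (by exact_mod_cast n.factorial_pos)
  obtain ⟨j₀, hj₀⟩ := eventually_atTop.mp (t.eventually_const_lt (half_lt_self hβpos))
  obtain ⟨a, ha⟩ := exists_nat_gt (2 / β)
  have ha0 : 0 < a := Nat.cast_pos.mp ((div_pos two_pos hβpos).trans ha)
  refine ⟨ν * (j₀ + 1), a, Nat.mul_pos hν (Nat.succ_pos _), ha0, fun μ hμ => ?_⟩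
  let j := (j₀ + 1) * μ
  have hjμ : μ ≤ j := Nat.le_mul_of_pos_left μ (Nat.succ_pos _)
  have hjpos : (0 : ℝ) < (j : ℝ) := by exact_mod_cast (show 0 < j by omega)
  have h1 := hj₀ j ((Nat.le_succ j₀).trans (Nat.le_mul_of_pos_right _ (by omega)))
  rw [lt_div_iff₀ (pow_pos hjpos n)] at h1
  have hu : hdim k X (CohB1.tensorMod (Coh.structureModule X) (CohB1.tensorPow A j)) 0 = hdim k X (CohB1.tensorPow A j) 0 :=
    hdim_congr k ((ProjTwist.nonempty_tensorMod_comm _ _).some ≪≫ SecTwist.unitorR _) 0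
  rw [hu] at h1
  have h2 := hle j (by omega)
  rw [show ν * j = ν * (j₀ + 1) * μ by simp only [j]; ring] at h2
  have h3 : (hdim k X (CohB1.tensorPow A j) 0 : ℝ) ≤ (hdim k X (CohB1.tensorPow L (ν * (j₀ + 1) * μ)) 0 : ℝ) :=
    Int.cast_le.mpr h2
  have h4 : (μ : ℝ) ^ n ≤ (j : ℝ) ^ n := pow_le_pow_left₀ (Nat.cast_nonneg _) (Nat.cast_le.mpr hjμ) n
  rw [div_lt_iff₀ hβpos] at ha
  have h5 : (1 : ℝ) ≤ a * (β / 2) := by linarith
  rw [← Int.cast_le (R := ℝ)]
  push_cast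
  calc (μ : ℝ) ^ n ≤ (j : ℝ) ^ n := h4
    _ ≤ a * (β / 2) * (j : ℝ) ^ n := le_mul_of_one_le_left (by positivity) h5
    _ = a * (β / 2 * (j : ℝ) ^ n) := by ring
    _ ≤ _ := mul_le_mul_of_nonneg_left (le_trans h1.le h3) (Nat.cast_nonneg a)

/-- Maximal growth gives an ample submodule of a power. -/
theorem exists_mono_of_growth [IsIntegral X] {n : ℕ} (hX : topologicalKrullDim X = (n : WithBot ℕ∞))
    {H : X.Modules} (hH : CohB1.IsAmple H) {L : X.Modules} (hL : PicF.IsInvertible L) {ν a : ℕ} (hν : 0 < ν)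
    (hgrow : ∀ μ : ℕ, 1 ≤ μ → (μ : ℤ) ^ n ≤ (a : ℤ) * hdim k X (CohB1.tensorPow L (ν * μ)) 0) :
    ∃ (ν : ℕ) (A : X.Modules) (φ : A ⟶ CohB1.tensorPow L ν), 0 < ν ∧ CohB1.IsAmple A ∧ Mono φ := by
  haveI := isNoetherian_of_proper (X := X) k
  haveI : X.IsSeparated := ⟨by rw [← terminal.comp_from (X ↘ Spec (CommRingCat.of k))]; infer_instance⟩
  rcases n with - | d
  · have hLamp : CohB1.IsAmple L := isAmple_of_inumOn_pos k hL fun W j _ _ d hd hW => by
      have h : topologicalKrullDim W ≤ topologicalKrullDim X := by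
        rw [dim_source j]
        exact topologicalKrullDim_subspace_le X _
      rw [hW, hX] at h
      exact absurd (Nat.cast_le.mp h) (by omega)
    obtain ⟨o⟩ := nonempty_pow_one_iso hL
    exact ⟨1, L, o.inv, one_pos, hLamp, inferInstance⟩
  let L₁ := CohB1.tensorPow L ν
  have hL₁ : PicF.IsInvertible L₁ := isInvertible_tensorPow hL ν
  obtain ⟨e₀, he₀, σ, hx, -, -⟩ := exists_locus_le hH (show genericPoint X ∈ (⊤ : X.Opens) from trivial)
  let B := CohB1.tensorPow H e₀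
  have hB : CohB1.IsAmple B := InvPow.isAmple_pow hH he₀
  have hσ : σ ≠ 0 := ne_zero_of_mem_genOpen (isInvertible_tensorPow hH.1 e₀) hx
  obtain ⟨B', hB'⟩ := NegVanish.exists_inverse hB.1
  have hB'i := NegVanish.isInvertible_of_inverse hB.1 hB'
  obtain ⟨hQ, hQd, -, -⟩ := inum_cut k hB.1 σ hσ (Inv.replicate hL d) (by rw [hX, List.length_replicate])
  set Q := cokernel (mulSection (Coh.structureModule X) σ) with hQdef
  rw [List.length_replicate] at hQd
  have hB'1 := isInvertible_tensorPow hB'i (0 + 1)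
  let Q₁ := CohB1.tensorMod Q (CohB1.tensorPow B' (0 + 1))
  have hQ₁ : Coh.IsCoh Q₁ := HilbPoly.isCoh_tensorMod hQ hB'1
  have hQ₁d : topologicalKrullDim (CohB1.support Q₁) ≤ (d : WithBot ℕ∞) := by
    rw [HilbPoly.support_tensorMod Q hB'1]
    exact hQd
  obtain ⟨e, he, hτ⟩ := exists_regular_section k hB hQ₁
  obtain ⟨n₀, -, hn₀⟩ := S2329.result X B L₁ hB hL₁
  let E := e * (n₀ + 1)
  let A := CohB1.tensorMod (CohB1.tensorPow B E) L₁
  have hA : CohB1.IsAmple A :=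
    (hn₀ E ((Nat.le_succ n₀).trans (Nat.le_mul_of_pos_left _ he))).1
  have t := tendsto_hdim_pow k hA hQ₁ hQ₁d
  let β : ℝ := (inum k (List.replicate d A) Q₁ : ℝ) / (d.factorial : ℝ) + 1
  have ev : ∀ᶠ m : ℕ in atTop, (hdim k X (CohB1.tensorMod Q₁ (CohB1.tensorPow A m)) 0 : ℝ) / (m : ℝ) ^ d < β ∧
      (1 ≤ m ∧ (a : ℝ) * β < (m : ℝ)) :=
    (t.eventually_lt_const (lt_add_one _)).and ((eventually_ge_atTop 1).and
      (tendsto_natCast_atTop_atTop.eventually_gt_atTop ((a : ℝ) * β)))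
  obtain ⟨N, hN⟩ := eventually_atTop.mp ev
  obtain ⟨h1, h2, h3⟩ := hN N le_rfl
  have hNpos : (0 : ℝ) < (N : ℝ) := by exact_mod_cast (show 0 < N by omega)
  rw [div_lt_iff₀ (pow_pos hNpos _)] at h1
  have hM := isInvertible_tensorPow hL₁ N
  have hP := isInvertible_tensorPow hB.1 (e * ((n₀ + 1) * N))
  obtain ⟨τ, hτ'⟩ := hτ ((n₀ + 1) * N) (Nat.mul_pos (Nat.succ_pos _) (by omega))
  obtain ⟨p1⟩ := nonempty_tensor_pow_iso (isInvertible_tensorPow hB.1 E) hL₁ N
  obtain ⟨p3⟩ := nonempty_pow_mul_iso hB.1 E N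
  obtain ⟨a₁⟩ := nonempty_assoc Q₁ hP hM
  have hbd : hdim k X (CohB1.tensorMod Q₁ (CohB1.tensorPow L₁ N)) 0 ≤
      hdim k X (CohB1.tensorMod Q₁ (CohB1.tensorPow A N)) 0 :=
    hdim_le_of_regular k hQ₁ hP τ hM (a₁.symm ≪≫ (ProjTwist.nonempty_tensorMod_iso (Iso.refl Q₁)
      ((ProjTwist.nonempty_tensorMod_iso (eqToIso (by rw [Nat.mul_assoc]) ≪≫ p3.symm) (Iso.refl _)).some ≪≫ p1.symm)).some)
  obtain ⟨a₂⟩ := nonempty_assoc Q hB'1 hM
  obtain ⟨c₂⟩ := ProjTwist.nonempty_tensorMod_comm (CohB1.tensorPow B' (0 + 1)) (CohB1.tensorPow L₁ N)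
  have hq := hdim_congr k (a₂.symm ≪≫ (ProjTwist.nonempty_tensorMod_iso (Iso.refl Q) c₂).some) 0
  have hb := hdim_cut k hB.1 hB' σ hσ hM 0
  have hu : hdim k X (CohB1.tensorMod (CohB1.tensorPow L₁ N) (CohB1.tensorPow B' 0)) 0 =
      hdim k X (CohB1.tensorPow L₁ N) 0 := hdim_congr k (SecTwist.unitorR (CohB1.tensorPow L₁ N)) 0
  rw [← hq, hu] at hb
  obtain ⟨o⟩ := nonempty_pow_one_iso hB'i
  rw [hdim_congr k (ProjTwist.nonempty_tensorMod_iso (Iso.refl (CohB1.tensorPow L₁ N)) o).some 0] at hb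
  obtain ⟨pL⟩ := nonempty_pow_mul_iso hL ν N
  by_cases hs : ∃ s : Γ(CohB1.tensorMod (CohB1.tensorPow L₁ N) B', ⊤), s ≠ 0
  · obtain ⟨s, hs⟩ := hs
    have hG := InvPow.isInvertible_tensorMod hM hB'i
    haveI : Mono (mulSection B s) := mono_mulSection_invertible hB.1 hG s (genOpen_nonempty_of_ne_zero hG hs)
    obtain ⟨c⟩ := ProjTwist.nonempty_tensorMod_comm (CohB1.tensorPow L₁ N) B'
    obtain ⟨a₃⟩ := nonempty_assoc B hB'i hM
    have i : CohB1.tensorMod B (CohB1.tensorMod (CohB1.tensorPow L₁ N) B') ≅ CohB1.tensorPow L (ν * N) :=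
      (ProjTwist.nonempty_tensorMod_iso (Iso.refl B) c).some ≪≫ a₃ ≪≫
        (ProjTwist.nonempty_tensorMod_iso hB'.some (Iso.refl _)).some ≪≫
        (ProjTwist.nonempty_tensorMod_comm _ _).some ≪≫ SecTwist.unitorR _ ≪≫ pL
    exact ⟨ν * N, B, mulSection B s ≫ i.hom, Nat.mul_pos hν (by omega), hB, inferInstance⟩
  exfalso
  push Not at hs
  have h0 : hdim k X (CohB1.tensorMod (CohB1.tensorPow L₁ N) B') 0 ≤ 0 := by
    by_contra hc
    obtain ⟨s, hs'⟩ := exists_section_of_hdim_pos k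
      (isCoh_of_isInvertible (InvPow.isInvertible_tensorMod hM hB'i)) (not_le.mp hc)
    exact hs' (hs s)
  have h4 : (hdim k X (CohB1.tensorPow L (ν * N)) 0 : ℝ) ≤
      (hdim k X (CohB1.tensorMod Q₁ (CohB1.tensorPow A N)) 0 : ℝ) := by
    rw [← hdim_congr k pL 0]
    exact_mod_cast (show _ ≤ _ by linarith)
  have h5 : (N : ℝ) ^ (d + 1) ≤ (a : ℝ) * (hdim k X (CohB1.tensorPow L (ν * N)) 0 : ℝ) := by
    exact_mod_cast hgrow N h2
  have h6 : (a : ℝ) * (β * (N : ℝ) ^ d) < (N : ℝ) ^ (d + 1) := by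
    rw [pow_succ, ← mul_assoc, mul_comm ((N : ℝ) ^ d)]
    exact mul_lt_mul_of_pos_right h3 (pow_pos hNpos d)
  have h7 := mul_le_mul_of_nonneg_left (h4.trans h1.le) (Nat.cast_nonneg (α := ℝ) a)
  linarith

end Groth.Agent.IntTh
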