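import Groth.Agent.HilbPoly.IntNum
import Groth.Agent.HilbPoly.Cartier
import Groth.Prelude.Def_Curv2

/-!
# Intersection numbers as iterated differences of Euler characteristics

`inum k (A :: l) F = inum k l (F ⊗ A) - inum k l F`: when `dim Supp F ≤ l.length` this is the intersection
number of the modules in `l` against `F`; it is symmetric, additive in each module and additive in `F`.
-/

universe u

open CategoryTheory CategoryTheory.Limits AlgebraicGeometry Opposite TopologicalSpace

set_option backward.isDefEq.respectTransparency false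

namespace Groth.Agent.IntTh

open InvBasic ProjUniv Groth.Agent.InvPow Groth.Agent.QCohLib Groth.Agent.HilbPoly

variable {X : Scheme.{u}}

/-- All members of the list are invertible. -/
def Inv (l : List X.Modules) : Prop := ∀ A ∈ l, PicF.IsInvertible A

theorem Inv.head {A : X.Modules} {l : List X.Modules} (h : Inv (A :: l)) : PicF.IsInvertible A :=
  h A (List.mem_cons_self ..)

theorem Inv.tail {A : X.Modules} {l : List X.Modules} (h : Inv (A :: l)) : Inv l :=
  fun B hB => h B (List.mem_cons_of_mem _ hB)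

theorem Inv.cons {A : X.Modules} {l : List X.Modules} (hA : PicF.IsInvertible A) (h : Inv l) : Inv (A :: l) :=
  fun B hB => by
    rcases List.mem_cons.mp hB with rfl | hB
    exacts [hA, h B hB]

theorem Inv.replicate {A : X.Modules} (hA : PicF.IsInvertible A) (n : ℕ) : Inv (List.replicate n A) :=
  fun B hB => by rwa [List.eq_of_mem_replicate hB]

theorem Inv.perm {l l' : List X.Modules} (h : Inv l) (hp : l.Perm l') : Inv l' := fun A hA => h A (hp.symm.subset hA)

theorem Inv.map_pullback {W : Scheme.{u}} (j : W ⟶ X) {l : List X.Modules} (h : Inv l) :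
    Inv (l.map (Scheme.Modules.pullback j).obj) := fun A hA => by
  obtain ⟨B, hB, rfl⟩ := List.mem_map.mp hA
  exact isInvertible_pullback j (h B hB)

theorem Inv.ofFn {r : ℕ} {L : Fin r → X.Modules} (hL : ∀ i, PicF.IsInvertible (L i)) : Inv (List.ofFn L) :=
  fun A hA => by
    obtain ⟨i, rfl⟩ := List.mem_ofFn.mp hA
    exact hL i

variable (k : Type u) [Field k] [X.Over (Spec (CommRingCat.of k))]

/-- Iterated differences of Euler characteristics of twists. -/
noncomputable def inum : List X.Modules → X.Modules → ℤ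
  | [], F => Curv2.euler k X F
  | A :: l, F => inum l (CohB1.tensorMod F A) - inum l F

theorem inum_congr : ∀ (l : List X.Modules) {F G : X.Modules}, (F ≅ G) → inum k l F = inum k l G
  | [], _, _, e => euler_congr e
  | A :: l, F, G, e => by
    rw [inum, inum, inum_congr l e, inum_congr l (ProjTwist.nonempty_tensorMod_iso e (Iso.refl A)).some]

theorem inum_congr_mods : ∀ {l l' : List X.Modules}, List.Forall₂ (fun A B => Nonempty (A ≅ B)) l l' →
    ∀ F : X.Modules, inum k l F = inum k l' F
  | _, _, .nil, _ => rfl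
  | A :: l, B :: l', .cons ⟨e⟩ h, F => by
    rw [inum, inum, inum_congr_mods h F,
      inum_congr k l (ProjTwist.nonempty_tensorMod_iso (Iso.refl F) e).some, inum_congr_mods h]

theorem inum_head_congr {A B : X.Modules} (e : A ≅ B) (l : List X.Modules) (F : X.Modules) :
    inum k (A :: l) F = inum k (B :: l) F := by
  rw [inum, inum, inum_congr k l (ProjTwist.nonempty_tensorMod_iso (Iso.refl F) e).some]

theorem inum_swap {A B : X.Modules} (hA : PicF.IsInvertible A) (hB : PicF.IsInvertible B) (l : List X.Modules)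
    (F : X.Modules) : inum k (A :: B :: l) F = inum k (B :: A :: l) F := by
  simp only [inum]
  obtain ⟨a⟩ := nonempty_assoc F hA hB
  obtain ⟨a'⟩ := nonempty_assoc F hB hA
  obtain ⟨c⟩ := ProjTwist.nonempty_tensorMod_comm A B
  rw [inum_congr k l (a.symm ≪≫ (ProjTwist.nonempty_tensorMod_iso (Iso.refl F) c).some ≪≫ a')]
  ring

theorem inum_perm {l l' : List X.Modules} (hp : l.Perm l') : Inv l → ∀ F : X.Modules, inum k l F = inum k l' F := by
  induction hp with
  | nil => exact fun _ _ => rfl
  | cons A _ ih => exact fun h F => by rw [inum, inum, ih h.tail, ih h.tail]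
  | swap A B l => exact fun h F => inum_swap k h.head h.tail.head l F
  | trans h₁ _ ih₁ ih₂ => exact fun h F => (ih₁ h F).trans (ih₂ (h.perm h₁) F)

theorem inum_head_tensor_eq {A B : X.Modules} (hA : PicF.IsInvertible A) (hB : PicF.IsInvertible B)
    (l : List X.Modules) (F : X.Modules) :
    inum k (CohB1.tensorMod A B :: l) F = inum k (A :: l) F + inum k (B :: l) F + inum k (A :: B :: l) F := by
  simp only [inum]
  obtain ⟨a⟩ := nonempty_assoc F hA hB
  rw [inum_congr k l a]
  ring

theorem inum_head_unit (l : List X.Modules) (F : X.Modules) : inum k (Coh.structureModule X :: l) F = 0 := by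
  rw [inum, inum_congr k l (SecTwist.unitorR F), sub_self]

variable [IsProper (X ↘ Spec (CommRingCat.of k))]

theorem inum_additive : ∀ {l : List X.Modules}, Inv l → ∀ {S : ShortComplex X.Modules}, S.ShortExact →
    Coh.IsCoh S.X₁ → Coh.IsCoh S.X₂ → Coh.IsCoh S.X₃ → inum k l S.X₂ = inum k l S.X₁ + inum k l S.X₃
  | [], _, _, hS, h₁, h₂, h₃ => euler_additive hS h₁ h₂ h₃
  | A :: l, h, S, hS, h₁, h₂, h₃ => by
    have : IsLocallyNoetherian X := LocallyOfFiniteType.isLocallyNoetherian (X ↘ Spec (CommRingCat.of k))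
    have h' := inum_additive h.tail (shortExact_tSC hS h.head) (isCoh_tensorMod h₁ h.head)
      (isCoh_tensorMod h₂ h.head) (isCoh_tensorMod h₃ h.head)
    change inum k l (CohB1.tensorMod S.X₂ A) = inum k l (CohB1.tensorMod S.X₁ A) + inum k l (CohB1.tensorMod S.X₃ A) at h'
    rw [inum, inum, inum, h', inum_additive h.tail hS h₁ h₂ h₃]
    ring

/-- Intersection numbers are computed on closed subschemes. -/
theorem inum_push {W : Scheme.{u}} (j : W ⟶ X) [IsClosedImmersion j] : ∀ {l : List X.Modules}, Inv l →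
    ∀ (N : W.Modules), N.IsQuasicoherent →
    inum k l ((Scheme.Modules.pushforward j).obj N) =
      @inum W k _ ⟨j ≫ (X ↘ Spec (CommRingCat.of k))⟩ (l.map (Scheme.Modules.pullback j).obj) N
  | [], _, N, hN => by
    haveI := hN
    exact euler_push j k N
  | A :: l, h, N, hN => by
    haveI := hN
    haveI := (isCoh_of_isInvertible (isInvertible_pullback j h.head)).1
    rw [inum, List.map_cons, inum, inum_congr k l (nonempty_push_tensor j N A).some,
      inum_push j h.tail _ (TensorQCoh.isQuasicoherent_tensorMod _ _), inum_push j h.tail N hN]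

theorem inum_ofFn : ∀ {e : ℕ} {L : Fin e → X.Modules}, (∀ i, PicF.IsInvertible (L i)) → ∀ F : X.Modules,
    (inum k (List.ofFn L) F : ℚ) = altSum fun n => (Curv2.euler k X (Curv2.tensorPows F e L n) : ℚ)
  | 0, L, _, F => by simp [altSum, inum]; rfl
  | e + 1, L, hL, F => by
    classical
    rw [List.ofFn_succ, inum, altSum_succ, Int.cast_sub, inum_ofFn (fun i => hL i.succ),
      inum_ofFn (fun i => hL i.succ)]
    refine congrArg₂ (· - ·) (congrArg altSum (funext fun m => ?_)) (congrArg altSum (funext fun m => ?_))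
    · have hu : Function.update (Fin.cons (α := fun _ => ℕ) 0 m) 0 ((Fin.cons (α := fun _ => ℕ) 0 m : Fin (e+1) → ℕ) 0 + 1) =
          (Fin.cons 1 m : Fin (e + 1) → ℕ) := by
        rw [Fin.update_cons_zero]
        simp
      obtain ⟨s⟩ := nonempty_tensorPows_step hL (Fin.cons 0 m : Fin (e + 1) → ℕ) 0
      rw [hu] at s
      obtain ⟨z⟩ := nonempty_tensorPows_zero_head (Coh.structureModule X) (L := L) (n := Fin.cons 0 m) (Fin.cons_zero ..)
      let T := Curv2.tensorPows (Coh.structureModule X) e (fun i => L i.succ) m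
      have hT : PicF.IsInvertible T := isInvertible_tensorPows (fun i => hL i.succ) m
      obtain ⟨c⟩ := ProjTwist.nonempty_tensorMod_comm T (L 0)
      obtain ⟨a⟩ := nonempty_assoc F (hL 0) hT
      refine congrArg Int.cast (euler_congr ?_)
      exact (nonempty_tensorPows_iso (CohB1.tensorMod F (L 0)) (fun i => hL i.succ) m).some ≪≫ a.symm ≪≫
        (ProjTwist.nonempty_tensorMod_iso (Iso.refl F)
          (c.symm ≪≫ (ProjTwist.nonempty_tensorMod_iso (eqToIso (by simp [T]) ≪≫ z.symm) (Iso.refl (L 0))).some ≪≫ s.symm)).some ≪≫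
        (nonempty_tensorPows_iso F hL (Fin.cons 1 m)).some.symm
    · obtain ⟨z⟩ := nonempty_tensorPows_zero_head F (L := L) (n := Fin.cons 0 m) (Fin.cons_zero ..)
      exact congrArg Int.cast (euler_congr (eqToIso (by simp) ≪≫ z.symm))

/-- Intersection numbers vanish above the dimension of the support. -/
theorem inum_eq_zero_of_dim {l : List X.Modules} (hl : Inv l) {F : X.Modules} (hF : Coh.IsCoh F)
    (hd : topologicalKrullDim (CohB1.support F) < (l.length : WithBot ℕ∞)) : inum k l F = 0 := by
  have hL : ∀ i, PicF.IsInvertible (l.get i) := fun i => hl _ (List.get_mem l i)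
  obtain ⟨P, hP, hPe⟩ := exists_poly_tensorPows k hL hF hd
  have h := inum_ofFn k hL F
  rw [List.ofFn_get, show (fun n => (Curv2.euler k X (Curv2.tensorPows F l.length l.get n) : ℚ)) = evN P from funext hPe,
    altSum_eq_coeff (mem_degLT.mpr fun m hm => Nat.lt_succ_of_lt (mem_degLT.mp hP m hm)),
    coeff_diag_eq_zero hP] at h
  exact_mod_cast h

/-- Intersection numbers are additive in each module. -/
theorem inum_head_tensor {A B : X.Modules} (hA : PicF.IsInvertible A) (hB : PicF.IsInvertible B)
    {l : List X.Modules} (hl : Inv l) {F : X.Modules} (hF : Coh.IsCoh F)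
    (hd : topologicalKrullDim (CohB1.support F) ≤ ((l.length + 1 : ℕ) : WithBot ℕ∞)) :
    inum k (CohB1.tensorMod A B :: l) F = inum k (A :: l) F + inum k (B :: l) F := by
  rw [inum_head_tensor_eq k hA hB, inum_eq_zero_of_dim k ((hl.cons hB).cons hA) hF
    (hd.trans_lt (by simp only [List.length_cons]; exact_mod_cast Nat.lt_succ_self (l.length + 1))), add_zero]

theorem inum_head_pow {A : X.Modules} (hA : PicF.IsInvertible A) {l : List X.Modules} (hl : Inv l)
    {F : X.Modules} (hF : Coh.IsCoh F)
    (hd : topologicalKrullDim (CohB1.support F) ≤ ((l.length + 1 : ℕ) : WithBot ℕ∞)) :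
    ∀ m : ℕ, inum k (CohB1.tensorPow A m :: l) F = (m : ℤ) * inum k (A :: l) F
  | 0 => by
    rw [Nat.cast_zero, zero_mul]
    exact inum_head_unit k l F
  | m + 1 => by
    show inum k (CohB1.tensorMod (CohB1.tensorPow A m) A :: l) F = _
    rw [inum_head_tensor k (isInvertible_tensorPow hA m) hA hl hF hd, inum_head_pow hA hl hF hd m]
    push_cast
    ring

theorem inum_head_inverse {A A' : X.Modules} (hA : PicF.IsInvertible A) (hA' : PicF.IsInvertible A')
    (e : Nonempty (CohB1.tensorMod A A' ≅ Coh.structureModule X)) {l : List X.Modules} (hl : Inv l)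
    {F : X.Modules} (hF : Coh.IsCoh F)
    (hd : topologicalKrullDim (CohB1.support F) ≤ ((l.length + 1 : ℕ) : WithBot ℕ∞)) :
    inum k (A' :: l) F = -inum k (A :: l) F := by
  have h := inum_head_tensor k hA hA' hl hF hd
  rw [inum_head_congr k e.some, inum_head_unit] at h
  linarith

/-- The frozen intersection symbol. -/
theorem intNum_eq {d r : ℕ} (hd : topologicalKrullDim X ≤ d) {M : Fin r → X.Modules}
    (hM : ∀ i, PicF.IsInvertible (M i)) {F : X.Modules} (hF : Coh.IsCoh F) :
    FGA.intNum k X d M F = (-1 : ℤ) ^ r * inum k (List.ofFn M) F := by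
  apply Int.cast_injective (α := ℚ)
  push_cast
  rw [intNum_eq_altSum k hd hM hF, inum_ofFn k hM F]

/-- The coefficient of `n_1 ⋯ n_d`. -/
theorem coeff_diag_eq_inum {d : ℕ} {L : Fin d → X.Modules} (hL : ∀ i, PicF.IsInvertible (L i))
    {F : X.Modules} (hF : Coh.IsCoh F) (hd : topologicalKrullDim (CohB1.support F) ≤ d)
    {P : MvPolynomial (Fin d) ℚ}
    (hP : ∀ n : Fin d → ℕ, (Curv2.euler k X (Curv2.tensorPows F d L n) : ℚ) = MvPolynomial.eval (fun i => (n i : ℚ)) P) :
    P.coeff (diag d) = (inum k (List.ofFn L) F : ℚ) := by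
  rw [coeff_diag_eq_altSum k hL hF hd hP, inum_ofFn k hL F]

/-- Decomposition along the top-dimensional components of the support. -/
theorem inum_eq_sum {l : List X.Modules} (hl : Inv l) {F : X.Modules} (hF : Coh.IsCoh F)
    (hd : topologicalKrullDim (CohB1.support F) ≤ (l.length : WithBot ℕ∞)) :
    ∃ s : Finset X, (∀ ξ ∈ s, ξ ∈ CohB1.support F ∧ topologicalKrullDim ↥(closure ({ξ} : Set X)) = l.length) ∧
      inum k l F = ∑ ξ ∈ s, ((stkLen F ξ).toNat : ℤ) * inum k l (ClSub.quotMod
        (Scheme.IdealSheafData.vanishingIdeal (⟨closure ({ξ} : Set X), isClosed_closure⟩ : Closeds X))) := by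
  classical
  have : CompactSpace X := QuasiCompact.compactSpace_of_compactSpace (X ↘ Spec (CommRingCat.of k))
  have : IsLocallyNoetherian X := LocallyOfFiniteType.isLocallyNoetherian (X ↘ Spec (CommRingCat.of k))
  have : IsNoetherian X := ⟨⟩
  rcases hd.lt_or_eq with hlt | heq
  · exact ⟨∅, by simp, by rw [inum_eq_zero_of_dim k hl hF hlt, Finset.sum_empty]⟩
  obtain ⟨D, hD⟩ := exists_dim_le k X
  have hXd : topologicalKrullDim X ≤ (D : WithBot ℕ∞) :=
    (IsHomeomorph.topologicalKrullDim_eq _ (Homeomorph.Set.univ X).isHomeomorph).symm.le.trans (hD _)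
  let s := (finite_topPoints (QCohLib.isClosed_support hF.2) heq).toFinset
  have hs : ∀ ξ, ξ ∈ s ↔ ξ ∈ CohB1.support F ∧ topologicalKrullDim ↥(closure ({ξ} : Set X)) = l.length :=
    fun ξ => by simp [s]
  have hL : ∀ i, PicF.IsInvertible (l.get i) := fun i => hl _ (List.get_mem l i)
  refine ⟨s, fun ξ hξ => (hs ξ).mp hξ, ?_⟩
  have h := intNum_eq_sum_components k hXd hL hF hd hs
  rw [intNum_eq k hXd hL hF, Finset.sum_congr rfl fun ξ (_ : ξ ∈ s) => by
    rw [intNum_eq k hXd hL (isCoh_quotMod _), mul_left_comm], ← Finset.mul_sum, List.ofFn_get] at h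
  exact mul_left_cancel₀ (pow_ne_zero _ (by norm_num)) h

end Groth.Agent.IntTh
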