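import Groth.Agent.IntTh.Subvar
import Groth.Agent.AmpleDescent.Nakai
import Groth.Prelude.Def_Pic13

/-!
# Nakai's criterion, positivity of ample modules, degrees on curves
-/

universe u

open CategoryTheory CategoryTheory.Limits AlgebraicGeometry Opposite TopologicalSpace

set_option backward.isDefEq.respectTransparency false
set_option maxHeartbeats 800000

namespace Groth.Agent.IntTh

open InvBasic ProjUniv Groth.Agent.InvPow Groth.Agent.QCohLib Groth.Agent.HilbPoly Groth.Agent.CurveDeg Groth.Agent.CohFinite

variable (k : Type u) [Field k] {X : Scheme.{u}} [X.Over (Spec (CommRingCat.of k))]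
  [IsProper (X ↘ Spec (CommRingCat.of k))]

/-- The self-intersection is `d!` times the leading Hilbert coefficient. -/
theorem inum_replicate_eq {L : X.Modules} (hL : PicF.IsInvertible L) {d : ℕ} {p : Polynomial ℚ}
    (hpd : p.natDegree ≤ d) (hp : ∀ m : ℕ, (Curv2.euler k X (CohB1.tensorPow L m) : ℚ) = p.eval (m : ℚ)) :
    (inum k (List.replicate d L) (Coh.structureModule X) : ℚ) = d.factorial * p.coeff d := by
  rw [← List.ofFn_const d L, inum_ofFn k fun _ => hL, ← AmpleDescent.altSum_card_le hpd]
  refine congrArg altSum (funext fun n => ?_)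
  exact (congrArg Int.cast (euler_congr (nonempty_tensorPows_const hL n).some)).trans (hp _)

/-- An ample module has positive self-intersection. -/
theorem inum_pos_of_isAmple {A : X.Modules} (hA : CohB1.IsAmple A) {d : ℕ}
    (hX : topologicalKrullDim X = (d : WithBot ℕ∞)) : 0 < inum k (List.replicate d A) (Coh.structureModule X) := by
  haveI := isNoetherian_of_proper (X := X) k
  have hO : Coh.IsCoh (Coh.structureModule X) := isCoh_of_isInvertible (HilbPoly.isInvertible_structureModule X)
  have hd : topologicalKrullDim (CohB1.support (Coh.structureModule X)) ≤ (d : WithBot ℕ∞) :=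
    (topologicalKrullDim_subspace_le X _).trans hX.le
  obtain ⟨P, -, hP⟩ := exists_poly_tensorPows k (fun _ : Fin d => hA.1) hO (d := d + 1)
    (hd.trans_lt (by exact_mod_cast Nat.lt_succ_self d))
  have h := (asymptotic_riemann_roch k hX hA hP).1
  rw [coeff_diag_eq_inum k (fun _ => hA.1) hO hd hP, List.ofFn_const] at h
  exact_mod_cast h

/-- Ample modules have positive intersection numbers with all subvarieties. -/
theorem inumOn_pos_of_isAmple {A : X.Modules} (hA : CohB1.IsAmple A) {W : Scheme.{u}} (j : W ⟶ X)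
    [IsClosedImmersion j] {d : ℕ} (hW : topologicalKrullDim W = (d : WithBot ℕ∞)) :
    0 < inumOn k j (List.replicate d A) := by
  letI : W.Over (Spec (CommRingCat.of k)) := ⟨j ≫ (X ↘ Spec (CommRingCat.of k))⟩
  haveI : IsProper (W ↘ Spec (CommRingCat.of k)) :=
    inferInstanceAs (IsProper (j ≫ (X ↘ Spec (CommRingCat.of k))))
  unfold inumOn
  rw [List.map_replicate]
  exact inum_pos_of_isAmple k (AmpleDescent.isAmple_pullback_affine hA j) hW

/-- **Nakai**: positive self-intersection on every subvariety gives ampleness. -/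
theorem isAmple_of_inumOn_pos {L : X.Modules} (hL : PicF.IsInvertible L)
    (h : ∀ (W : Scheme.{u}) (j : W ⟶ X) [IsClosedImmersion j] [IsIntegral W] (d : ℕ), 0 < d →
      topologicalKrullDim W = (d : WithBot ℕ∞) → 0 < inumOn k j (List.replicate d L)) : CohB1.IsAmple L := by
  refine AmpleDescent.isAmple_of_pos k hL fun C _ d hd hdim p hpd hp => ?_
  let J := Scheme.IdealSheafData.vanishingIdeal C
  letI : J.subscheme.Over (Spec (CommRingCat.of k)) := ⟨J.subschemeι ≫ (X ↘ (Spec (CommRingCat.of k)))⟩
  haveI : IsProper (J.subscheme ↘ Spec (CommRingCat.of k)) :=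
    inferInstanceAs (IsProper (J.subschemeι ≫ (X ↘ (Spec (CommRingCat.of k)))))
  have hd' : topologicalKrullDim J.subscheme = (d : WithBot ℕ∞) := by
    rw [dim_source J.subschemeι, show Set.range J.subschemeι = (C : Set X) from
      CohFinite.range_vanishingIdeal_subschemeι C.isClosed, hdim]
  have h1 := h J.subscheme J.subschemeι d hd hd'
  unfold inumOn at h1
  rw [List.map_replicate] at h1
  have h2 := inum_replicate_eq k (ProjUniv.isInvertible_pullback J.subschemeι hL) hpd hp
  have h3 : (0 : ℚ) < d.factorial * p.coeff d := by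
    rw [← h2]; exact_mod_cast h1
  exact pos_of_mul_pos_right h3 (Nat.cast_nonneg _)

/-- Degree non-negative on every integral curve. -/
def Nef (L : X.Modules) : Prop :=
  ∀ (W : Scheme.{u}) (j : W ⟶ X) [IsClosedImmersion j] [IsIntegral W], topologicalKrullDim W = 1 →
    0 ≤ inumOn k j [L]

omit [IsProper (X ↘ Spec (CommRingCat.of k))] in
theorem inumOn_single {W : Scheme.{u}} (j : W ⟶ X) (L : X.Modules) :
    inumOn k j [L] = @Curv2.euler k _ W ⟨j ≫ (X ↘ Spec (CommRingCat.of k))⟩ ((Scheme.Modules.pullback j).obj L) -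
      @Curv2.euler k _ W ⟨j ≫ (X ↘ Spec (CommRingCat.of k))⟩ (Coh.structureModule W) := by
  letI : W.Over (Spec (CommRingCat.of k)) := ⟨j ≫ (X ↘ Spec (CommRingCat.of k))⟩
  obtain ⟨c⟩ := ProjTwist.nonempty_tensorMod_comm (Coh.structureModule W) ((Scheme.Modules.pullback j).obj L)
  unfold inumOn
  simp only [List.map_cons, List.map_nil, inum]
  rw [euler_congr (c ≪≫ SecTwist.unitorR _)]

/-- The frozen degree on curves. -/
theorem curveDeg_eq_inumOn {L : X.Modules} (hL : PicF.IsInvertible L) {W : Scheme.{u}} (j : W ⟶ X)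
    [IsClosedImmersion j] (hW : topologicalKrullDim W = 1) :
    Pic13.curveDeg k (j ≫ (X ↘ Spec (CommRingCat.of k))) ((Scheme.Modules.pullback j).obj L) = inumOn k j [L] := by
  letI : W.Over (Spec (CommRingCat.of k)) := ⟨j ≫ (X ↘ Spec (CommRingCat.of k))⟩
  haveI : IsProper (W ↘ Spec (CommRingCat.of k)) :=
    inferInstanceAs (IsProper (j ≫ (X ↘ Spec (CommRingCat.of k))))
  haveI := isNoetherian_of_proper (X := W) k
  have hd : ∀ S : Set W, topologicalKrullDim S ≤ ((1 : ℕ) : WithBot ℕ∞) := fun S =>
    (topologicalKrullDim_subspace_le W S).trans (by simpa using hW.le)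
  rw [inumOn_single k j L, ← eulerCharLE_eq_euler k (isCoh_of_isInvertible (isInvertible_pullback j hL)) (hd _),
    ← eulerCharLE_eq_euler k (isCoh_of_isInvertible (HilbPoly.isInvertible_structureModule W)) (hd _)]
  rfl

/-- Degrees on closed subschemes given by ideals. -/
theorem euler_quotMod_eq_inumOn {L : X.Modules} (hL : PicF.IsInvertible L) (C : X.IdealSheafData) :
    Curv2.euler k X (CohB1.tensorMod (ClSub.quotMod C) L) - Curv2.euler k X (ClSub.quotMod C) =
      inumOn k C.subschemeι [L] :=
  inum_push k C.subschemeι (l := [L]) (Inv.cons hL fun _ h => absurd h List.not_mem_nil) _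
    (InvBasic.isQuasicoherent_structureModule _)

/-- Any closed immersion of an integral curve is given by an ideal. -/
theorem exists_ideal_of_curve {L : X.Modules} (hL : PicF.IsInvertible L) {W : Scheme.{u}} (j : W ⟶ X)
    [IsClosedImmersion j] [IsIntegral W] (hW : topologicalKrullDim W = 1) :
    ∃ C : X.IdealSheafData, IsIntegral C.subscheme ∧ topologicalKrullDim (C.support : Set X) = 1 ∧
      inumOn k j [L] = Curv2.euler k X (CohB1.tensorMod (ClSub.quotMod C) L) - Curv2.euler k X (ClSub.quotMod C) := by
  let Z : Closeds X := ⟨Set.range j, j.isClosedEmbedding.isClosed_range⟩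
  have hirr : IsIrreducible (Z : Set X) := by
    show IsIrreducible (Set.range j)
    rw [← Set.image_univ]
    exact (IrreducibleSpace.isIrreducible_univ W).image _ j.continuous.continuousOn
  refine ⟨Scheme.IdealSheafData.vanishingIdeal Z, CohFinite.isIntegral_vanishingIdeal Z.isClosed hirr, ?_, ?_⟩
  · show topologicalKrullDim (Set.range j) = 1
    rw [← dim_source j, hW]
  · obtain ⟨e⟩ := nonempty_push_structureModule_iso j (C := Z) rfl
    have h := inum_push k j (l := [L]) (Inv.cons hL fun _ h => absurd h List.not_mem_nil) _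
      (InvBasic.isQuasicoherent_structureModule W)
    rw [inum_congr k [L] e] at h
    exact h.symm

theorem nef_of_ideal {L : X.Modules} (hL : PicF.IsInvertible L)
    (h : ∀ C : X.IdealSheafData, IsIntegral C.subscheme → topologicalKrullDim (C.support : Set X) = 1 →
      0 ≤ Curv2.euler k X (CohB1.tensorMod (ClSub.quotMod C) L) - Curv2.euler k X (ClSub.quotMod C)) :
    Nef k L := fun W j _ _ hW => by
  obtain ⟨C, h1, h2, h3⟩ := exists_ideal_of_curve k hL j hW
  exact (h C h1 h2).trans h3.ge

theorem nef_of_curveDeg {L : X.Modules} (hL : PicF.IsInvertible L)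
    (h : ∀ (Y : Scheme.{u}) (i : Y ⟶ X) [IsClosedImmersion i], IsIntegral Y → topologicalKrullDim Y = 1 →
      0 ≤ Pic13.curveDeg k (i ≫ (X ↘ Spec (CommRingCat.of k))) ((Scheme.Modules.pullback i).obj L)) :
    Nef k L := fun W j _ hW' hW => by
  rw [← curveDeg_eq_inumOn k hL j hW]
  exact h W j hW' hW

theorem Nef.pullback {L : X.Modules} (hL : Nef k L) {W : Scheme.{u}} [W.Over (Spec (CommRingCat.of k))] (j : W ⟶ X)
    [IsClosedImmersion j] (hj : j ≫ (X ↘ Spec (CommRingCat.of k)) = W ↘ Spec (CommRingCat.of k)) :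
    Nef k ((Scheme.Modules.pullback j).obj L) := fun V i _ _ hV => by
  have := hL V (i ≫ j) hV
  rwa [inumOn_comp k i j hj] at this

end Groth.Agent.IntTh
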