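import Groth.Agent.IntTh.Nakai
import Groth.Agent.AmpleDescent.NakaiFinite
import Groth.Agent.NegVanish.Main
import Groth.Agent.NegVanish.DualInverse
import Groth.Agent.InvPow.GGSections
import Groth.Agent.ProjTwist.LocTriv

/-!
# Numerical invariance of intersection numbers; ampleness of strictly nef modules with sections
-/

universe u

open CategoryTheory CategoryTheory.Limits AlgebraicGeometry Opposite TopologicalSpace

set_option backward.isDefEq.respectTransparency false
set_option maxHeartbeats 800000

namespace Groth.Agent.IntTh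

open InvBasic ProjUniv Groth.Agent.InvPow Groth.Agent.QCohLib Groth.Agent.HilbPoly Groth.Agent.CurveDeg Groth.Agent.CohFinite

variable (k : Type u) [Field k] {X : Scheme.{u}} [X.Over (Spec (CommRingCat.of k))]
  [IsProper (X ↘ Spec (CommRingCat.of k))]

/-- Same degree on every integral curve. -/
def NumEq (A B : X.Modules) : Prop :=
  ∀ (W : Scheme.{u}) (j : W ⟶ X) [IsClosedImmersion j] [IsIntegral W], topologicalKrullDim W = 1 →
    inumOn k j [A] = inumOn k j [B]

/-- A numerically equivalent module may replace the first one. -/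
theorem inum_head_eq_of_numEq {A B : X.Modules} (hA : PicF.IsInvertible A) (hB : PicF.IsInvertible B)
    (h : NumEq k A B) {l : List X.Modules} (hl : Inv l) {F : X.Modules} (hF : Coh.IsCoh F)
    (hd : topologicalKrullDim (CohB1.support F) ≤ ((l.length + 1 : ℕ) : WithBot ℕ∞)) :
    inum k (A :: l) F = inum k (B :: l) F := by
  obtain ⟨B', hB'⟩ := NegVanish.exists_inverse hB
  have hB'i := NegVanish.isInvertible_of_inverse hB hB'
  have hD := isInvertible_tensorMod hA hB'i
  have hzero : DegZero k (CohB1.tensorMod A B') := fun W j _ _ hW => by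
    letI : W.Over (Spec (CommRingCat.of k)) := ⟨j ≫ (X ↘ Spec (CommRingCat.of k))⟩
    haveI : IsProper (W ↘ Spec (CommRingCat.of k)) :=
      inferInstanceAs (IsProper (j ≫ (X ↘ Spec (CommRingCat.of k))))
    haveI := isNoetherian_of_proper (X := W) k
    have hO : Coh.IsCoh (Coh.structureModule W) := isCoh_of_isInvertible (HilbPoly.isInvertible_structureModule W)
    have hd1 : topologicalKrullDim (CohB1.support (Coh.structureModule W)) ≤ ((([] : List W.Modules).length + 1 : ℕ) : WithBot ℕ∞) :=
      (topologicalKrullDim_subspace_le W _).trans (by simpa using hW.le)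
    have hnil : Inv ([] : List W.Modules) := fun _ h => absurd h List.not_mem_nil
    have h1 := h W j hW
    unfold inumOn at h1 ⊢
    simp only [List.map_cons, List.map_nil] at h1 ⊢
    obtain ⟨t⟩ := nonempty_pullback_tensor_iso j hA hB'i
    obtain ⟨t'⟩ := nonempty_pullback_tensor_iso j hB hB'i
    obtain ⟨o⟩ := nonempty_pullback_pow_iso j hB 0
    rw [inum_head_congr k t, inum_head_tensor k (isInvertible_pullback j hA) (isInvertible_pullback j hB'i) hnil hO hd1,
      inum_head_inverse k (isInvertible_pullback j hB) (isInvertible_pullback j hB'i)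
        ⟨t'.symm ≪≫ (Scheme.Modules.pullback j).mapIso hB'.some ≪≫ o⟩ hnil hO hd1, h1, add_neg_cancel]
  have hDz := inum_eq_zero_of_degZero k l.length X _ hD hzero l hl rfl F hF hd
  obtain ⟨a⟩ := nonempty_assoc A hB'i hB
  obtain ⟨c⟩ := ProjTwist.nonempty_tensorMod_comm B' B
  have e : A ≅ CohB1.tensorMod (CohB1.tensorMod A B') B :=
    (SecTwist.unitorR A).symm ≪≫ (ProjTwist.nonempty_tensorMod_iso (Iso.refl A) (hB'.some.symm ≪≫ c.symm)).some ≪≫ a
  rw [inum_head_congr k e, inum_head_tensor k hD hB hl hF hd, hDz, zero_add]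

/-- Numerically equivalent lists have the same intersection numbers. -/
theorem inum_eq_of_numEq {F : X.Modules} (hF : Coh.IsCoh F) : ∀ {l l' : List X.Modules},
    List.Forall₂ (fun A B => PicF.IsInvertible A ∧ PicF.IsInvertible B ∧ NumEq k A B) l l' →
    ∀ {p : List X.Modules}, Inv p →
    topologicalKrullDim (CohB1.support F) ≤ (((p ++ l).length : ℕ) : WithBot ℕ∞) →
      inum k (p ++ l) F = inum k (p ++ l') F
  | _, _, .nil, _, _, _ => rfl
  | A :: l, B :: l', .cons ⟨hA, hB, h⟩ hrest, p, hp, hd => by
    have hl : ∀ {q q' : List X.Modules}, List.Forall₂ (fun A B => PicF.IsInvertible A ∧ PicF.IsInvertible B ∧ NumEq k A B) q q' →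
        Inv q := fun hq C hC => by
      induction hq with
      | nil => exact absurd hC List.not_mem_nil
      | cons h _ ih =>
        rcases List.mem_cons.mp hC with rfl | hC
        exacts [h.1, ih hC]
    have hpl : Inv (p ++ l) := fun C hC => by
      rcases List.mem_append.mp hC with h | h
      exacts [hp C h, hl hrest C h]
    have hd' : topologicalKrullDim (CohB1.support F) ≤ (((p ++ l).length + 1 : ℕ) : WithBot ℕ∞) := by
      refine hd.trans (le_of_eq ?_)
      simp only [List.length_append, List.length_cons, Nat.add_assoc]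
    rw [inum_perm k List.perm_middle (fun C hC => by
      rcases List.mem_append.mp hC with h | h
      · exact hp C h
      · exact (Inv.cons hA (hl hrest)) C h), inum_head_eq_of_numEq k hA hB h hpl hF hd']
    have h2 := inum_eq_of_numEq hF hrest (p := p ++ [B]) (fun C hC => by
      rcases List.mem_append.mp hC with h | h
      exacts [hp C h, by rwa [List.mem_singleton.mp h]]) (by simpa using hd)
    rw [List.append_assoc, List.append_assoc] at h2
    rw [← inum_perm k List.perm_middle (fun C hC => by
      rcases List.mem_append.mp hC with h | h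
      · exact hp C h
      · exact (Inv.cons hB (hl hrest)) C h)]
    exact h2

include k in
/-- An integral closed subscheme of positive dimension contains an integral curve. -/
theorem exists_curve {d : ℕ} (hd : 0 < d) (hX : topologicalKrullDim X = (d : WithBot ℕ∞)) :
    ∃ (W : Scheme.{u}) (j : W ⟶ X), IsClosedImmersion j ∧ IsIntegral W ∧ topologicalKrullDim W = 1 := by
  classical
  haveI := isNoetherian_of_proper (X := X) k
  have hex : ∃ n : ℕ, 0 < n ∧ ∃ x : X, topologicalKrullDim (closure ({x} : Set X)) = (n : WithBot ℕ∞) := by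
    obtain ⟨x, -, hx⟩ := exists_point_of_dim k isClosed_univ
      (s := (Set.univ : Set X)) (d := d) ((IsHomeomorph.topologicalKrullDim_eq _ (Homeomorph.Set.univ X).isHomeomorph).trans hX)
    exact ⟨d, hd, x, hx⟩
  obtain ⟨hn, x, hx⟩ := Nat.find_spec hex
  set n := Nat.find hex with hndef
  have hn1 : n = 1 := by
    by_contra hne
    have hlt : ((1 : ℕ∞) : WithBot ℕ∞) < Order.krullDim (IrreducibleCloseds (closure ({x} : Set X))) := by
      show _ < topologicalKrullDim (closure ({x} : Set X))
      rw [hx]
      exact_mod_cast (show 1 < n by omega)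
    haveI : QuasiSober (closure ({x} : Set X)) := isClosed_closure.isClosedEmbedding_subtypeVal.quasiSober
    obtain ⟨l, hl⟩ := Order.le_krullDim_iff.mp (show ((2 : ℕ) : WithBot ℕ∞) ≤
      Order.krullDim (IrreducibleCloseds (closure ({x} : Set X))) by
        rw [show Order.krullDim (IrreducibleCloseds (closure ({x} : Set X))) = (n : WithBot ℕ∞) from hx]
        exact_mod_cast (show 2 ≤ n by omega))
    let C : Fin 3 → IrreducibleCloseds (closure ({x} : Set X)) := fun i => l.toFun (i.cast (by rw [hl]))
    have h01 : C 0 < C 1 := l.strictMono (by simp [Fin.lt_def])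
    have h12 : C 1 < C 2 := l.strictMono (by simp [Fin.lt_def])
    obtain ⟨y, hy⟩ := QuasiSober.sober (C 1).isIrreducible (C 1).isClosed
    obtain ⟨m, hm⟩ := exists_dim_closure k y.1
    have hym : closure ({y.1} : Set X) = ((↑) : closure ({x} : Set X) → X) '' (C 1 : Set _) := by
      refine subset_antisymm (closure_minimal ?_ (isClosed_closure.isClosedEmbedding_subtypeVal.isClosedMap _ (C 1).isClosed)) ?_
      · exact Set.singleton_subset_iff.mpr ⟨y, hy.mem, rfl⟩
      · rw [← hy.def]
        exact (image_closure_subset_closure_image continuous_subtype_val).trans (by rw [Set.image_singleton])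
    have hc : ∀ i, IsClosed (((↑) : closure ({x} : Set X) → X) '' (C i : Set _)) := fun i =>
      isClosed_closure.isClosedEmbedding_subtypeVal.isClosedMap _ (C i).isClosed
    have hi : ∀ i, IsIrreducible (((↑) : closure ({x} : Set X) → X) '' (C i : Set _)) := fun i =>
      (C i).isIrreducible.image _ continuous_subtype_val.continuousOn
    have hs : ∀ i j, C i < C j → ((↑) : closure ({x} : Set X) → X) '' (C i : Set _) ⊂
        ((↑) : closure ({x} : Set X) → X) '' (C j : Set _) := fun i j h =>
      Subtype.val_injective.image_strictMono (SetLike.coe_ssubset_coe.mpr h)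
    have hlow := HilbPoly.dim_add_one_le (hc 0) (hi 1) (hc 1) (hs 0 1 h01) ((hi 0).nonempty)
    have hhigh := HilbPoly.dim_add_one_le (hc 1) (hi 2) (hc 2) (hs 1 2 h12) ((hi 1).nonempty)
    have h2x : topologicalKrullDim (((↑) : closure ({x} : Set X) → X) '' (C 2 : Set _)) ≤ (n : WithBot ℕ∞) :=
      (HilbPoly.dim_mono (by rintro _ ⟨z, -, rfl⟩; exact z.2)).trans hx.le
    rw [← hym, hm] at hlow hhigh
    have hmn : m + 1 ≤ n := by exact_mod_cast hhigh.trans h2x
    have hm0 : 0 < m := by
      rcases Nat.eq_zero_or_pos m with h0 | h0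
      · obtain ⟨z, hz⟩ := (hi 0).nonempty
        have : Nonempty (IrreducibleCloseds (((↑) : closure ({x} : Set X) → X) '' (C 0 : Set _))) :=
          ⟨⟨closure {⟨z, hz⟩}, isIrreducible_singleton.closure, isClosed_closure⟩⟩
        have h1 : (0 : WithBot ℕ∞) ≤ topologicalKrullDim (((↑) : closure ({x} : Set X) → X) '' (C 0 : Set _)) :=
          Order.krullDim_nonneg
        have h2 := (add_le_add h1 (le_refl (1 : WithBot ℕ∞))).trans hlow
        rw [h0, zero_add] at h2
        exact absurd h2 (by simp)
      · exact h0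
    have := Nat.find_min' hex ⟨hm0, y.1, hm⟩
    omega
  let C : Closeds X := ⟨closure {x}, isClosed_closure⟩
  refine ⟨_, (Scheme.IdealSheafData.vanishingIdeal C).subschemeι, inferInstance,
    CohFinite.isIntegral_vanishingIdeal isClosed_closure isIrreducible_singleton.closure, ?_⟩
  rw [dim_source (Scheme.IdealSheafData.vanishingIdeal C).subschemeι,
    show Set.range (Scheme.IdealSheafData.vanishingIdeal C).subschemeι = closure {x} from
      CohFinite.range_vanishingIdeal_subschemeι isClosed_closure, hx, hn1]
  rfl

/-- Positive degree on every integral curve. -/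
def StrictNef (L : X.Modules) : Prop :=
  ∀ (W : Scheme.{u}) (j : W ⟶ X) [IsClosedImmersion j] [IsIntegral W], topologicalKrullDim W = 1 →
    0 < inumOn k j [L]

/-- A strictly nef module has no nowhere-vanishing section of a positive power in positive dimension. -/
theorem genOpen_ne_top_of_strictNef [IsIntegral X] {d : ℕ} (hd : 0 < d) (hX : topologicalKrullDim X = (d : WithBot ℕ∞))
    {L : X.Modules} (hL : PicF.IsInvertible L) (hs : StrictNef k L) {m : ℕ} (hm : 0 < m)
    (t : Γ(CohB1.tensorPow L m, ⊤)) : genOpen (isInvertible_tensorPow hL m) t ≠ ⊤ := by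
  intro ht
  obtain ⟨W, j, hj, hW, hW1⟩ := exists_curve k hd hX
  haveI := hj
  haveI := hW
  have hb : IsBasis (CohB1.tensorPow L m) t := isBasis_of_cover fun x _ => by
    obtain ⟨V, hxV, hV'⟩ := exists_nhd_of_gen (isInvertible_tensorPow hL m) (ht.ge trivial : x ∈ genOpen _ t)
    exact ⟨V, le_top, hxV, hV'⟩
  obtain ⟨triv⟩ := ProjTwist.nonempty_structureModule_iso (CohB1.tensorPow L m) t fun W => hb W le_top
  letI : W.Over (Spec (CommRingCat.of k)) := ⟨j ≫ (X ↘ Spec (CommRingCat.of k))⟩
  haveI : IsProper (W ↘ Spec (CommRingCat.of k)) :=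
    inferInstanceAs (IsProper (j ≫ (X ↘ Spec (CommRingCat.of k))))
  haveI := isNoetherian_of_proper (X := W) k
  have h1 := hs W j hW1
  unfold inumOn at h1
  simp only [List.map_cons, List.map_nil] at h1
  have hpow := inum_head_pow k (isInvertible_pullback j hL) (l := []) (fun _ h => absurd h List.not_mem_nil)
    (isCoh_of_isInvertible (HilbPoly.isInvertible_structureModule W))
    ((topologicalKrullDim_subspace_le W _).trans (by simpa using hW1.le)) m
  obtain ⟨p⟩ := nonempty_pullback_pow_iso j hL m
  obtain ⟨o⟩ := nonempty_pullback_pow_iso j hL 0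
  rw [inum_head_congr k (p.symm ≪≫ (Scheme.Modules.pullback j).mapIso triv.symm ≪≫ o),
    show inum k [CohB1.tensorPow ((Scheme.Modules.pullback j).obj L) 0] (Coh.structureModule W) = 0 from
      inum_head_unit k [] _] at hpow
  rcases mul_eq_zero.mp hpow.symm with h | h
  · omega
  · omega

theorem StrictNef.pullback {L : X.Modules} (hL : StrictNef k L) {W : Scheme.{u}} [W.Over (Spec (CommRingCat.of k))]
    (j : W ⟶ X) [IsClosedImmersion j]
    (hj : j ≫ (X ↘ Spec (CommRingCat.of k)) = W ↘ Spec (CommRingCat.of k)) :
    StrictNef k ((Scheme.Modules.pullback j).obj L) := fun V i _ _ hV => by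
  have := hL V (i ≫ j) hV
  rwa [inumOn_comp k i j hj] at this

/-- Strictly nef with sections on every subvariety implies ample. -/
theorem isAmple_of_strictNef_of_sections {L : X.Modules} (hL : PicF.IsInvertible L) (hs : StrictNef k L)
    (heff : ∀ (W : Scheme.{u}) (j : W ⟶ X) [IsClosedImmersion j] [IsIntegral W],
      ∃ m, 0 < m ∧ ∃ σ : Γ(CohB1.tensorPow ((Scheme.Modules.pullback j).obj L) m, ⊤), σ ≠ 0) :
    CohB1.IsAmple L := by
  refine isAmple_of_inumOn_pos k hL fun W j _ _ d hd hW => ?_
  clear hd
  induction d using Nat.strong_induction_on generalizing W with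
  | _ d ih =>
  letI : W.Over (Spec (CommRingCat.of k)) := ⟨j ≫ (X ↘ Spec (CommRingCat.of k))⟩
  haveI : IsProper (W ↘ Spec (CommRingCat.of k)) :=
    inferInstanceAs (IsProper (j ≫ (X ↘ Spec (CommRingCat.of k))))
  haveI := isNoetherian_of_proper (X := W) k
  let L' := (Scheme.Modules.pullback j).obj L
  have hL' : PicF.IsInvertible L' := isInvertible_pullback j hL
  have hO : Coh.IsCoh (Coh.structureModule W) := isCoh_of_isInvertible (HilbPoly.isInvertible_structureModule W)
  rcases Nat.eq_zero_or_pos d with rfl | hd
  · exact inum_pos_of_isAmple k (isAmple_of_dim_le_zero k hW.le hL') hW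
  obtain ⟨e, rfl⟩ : ∃ e, d = e + 1 := ⟨d - 1, by omega⟩
  obtain ⟨m, hm, σ, hσ⟩ := heff W j
  have hLm := isInvertible_tensorPow hL' m
  have hne := genOpen_ne_top_of_strictNef k hd hW hL' (StrictNef.pullback k hs j rfl) hm σ
  have hinv : Inv (List.replicate e L') := Inv.replicate hL' e
  have hWd : topologicalKrullDim W ≤ (((List.replicate e L').length + 1 : ℕ) : WithBot ℕ∞) := by simp [hW]
  obtain ⟨hQ, hQd, -, heq⟩ := inum_cut k hLm σ hσ hinv hWd
  obtain ⟨ι, _, mult, V, i, hi, hpos, hsum⟩ := inum_eq_sum_subvarieties k hinv hQ hQd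
  have hpow := inum_head_pow k hL' hinv hO ((topologicalKrullDim_subspace_le W _).trans hWd) m
  rw [heq] at hpow
  have hgoal : 0 < inum k (List.replicate e L') (cokernel (mulSection (Coh.structureModule W) σ)) := by
    have hnn : ∀ t, 0 < inumOn k (i t) (List.replicate e L') := fun t => by
      obtain ⟨h1, h2, -, h4⟩ := hi t
      haveI := h1
      haveI := h2
      have := ih e (Nat.lt_succ_self e) (V t) (i t ≫ j) inferInstance inferInstance (by simpa using h4)
      rwa [inumOn_comp k (i t) j rfl, List.map_replicate] at this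
    -- some component has positive multiplicity
    obtain ⟨z₀, hz₀⟩ := genOpen_nonempty_of_ne_zero hLm hσ
    have hz₀' : genericPoint W ∈ genOpen hLm σ :=
      (genericPoint_spec W).mem_open_set_iff (genOpen hLm σ).2 |>.mpr (by simpa using ⟨z₀, hz₀⟩)
    obtain ⟨y₀, hy₀⟩ : ∃ y, y ∉ genOpen hLm σ := by
      by_contra hc
      push Not at hc
      exact hne (top_unique fun y _ => hc y)
    have hgd : topologicalKrullDim (closure ({genericPoint W} : Set W)) = ((e + 1 : ℕ) : WithBot ℕ∞) := by
      rw [(genericPoint_spec W).def]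
      exact (IsHomeomorph.topologicalKrullDim_eq _ (Homeomorph.Set.univ W).isHomeomorph).trans hW
    obtain ⟨w, -, hw, hwd⟩ := exists_drop k hLm σ hz₀' ((genericPoint_spec W).specializes (Set.mem_univ y₀)) hy₀ hgd
    haveI : Mono (mulSection (Coh.structureModule W) σ) :=
      mono_mulSection_invertible (HilbPoly.isInvertible_structureModule W) hLm σ (genOpen_nonempty_of_ne_zero hLm hσ)
    have hwQ := mem_support_cokernel_mulSection hO hLm σ (y := w)
      (by rw [support_structureModule]; exact Set.mem_univ w) hw
    have hQeq : topologicalKrullDim (CohB1.support (cokernel (mulSection (Coh.structureModule W) σ))) = (e : WithBot ℕ∞) :=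
      le_antisymm (hQd.trans (by simp)) (hwd.ge.trans (HilbPoly.dim_mono (closure_minimal
        (Set.singleton_subset_iff.mpr hwQ) (QCohLib.isClosed_support hQ.2))))
    rw [hsum _ hinv rfl]
    refine lt_of_le_of_ne (Finset.sum_nonneg fun t _ => mul_nonneg (Int.natCast_nonneg _) (hnn t).le) fun h0 => ?_
    have hz : ∀ t, mult t = 0 := fun t => by
      have := (Finset.sum_eq_zero_iff_of_nonneg fun t _ => mul_nonneg (Int.natCast_nonneg _) (hnn t).le).mp h0.symm t
        (Finset.mem_univ t)
      rcases mul_eq_zero.mp this with h | h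
      · exact_mod_cast h
      · exact absurd h (hnn t).ne'
    obtain ⟨t, ht⟩ := hpos (hQeq.trans (by simp))
    exact ht.ne' (hz t)
  unfold inumOn
  rw [List.map_replicate, List.replicate_succ]
  rw [hpow] at hgoal
  exact pos_of_mul_pos_right hgoal (Int.natCast_nonneg m)

end Groth.Agent.IntTh
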