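import Groth.Agent.IntTh.Kleiman
import Groth.Agent.NegVanish.DualInverse
import Groth.Agent.S2329

/-!
# Positivity for several ample modules; flipping to the inverses
-/

universe u

open CategoryTheory CategoryTheory.Limits AlgebraicGeometry Opposite TopologicalSpace

set_option backward.isDefEq.respectTransparency false
set_option maxHeartbeats 800000

namespace Groth.Agent.IntTh

open InvBasic ProjUniv Groth.Agent.InvPow Groth.Agent.QCohLib Groth.Agent.HilbPoly Groth.Agent.CurveDeg Groth.Agent.CohFinite

variable (k : Type u) [Field k] {X : Scheme.{u}} [X.Over (Spec (CommRingCat.of k))]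
  [IsProper (X ↘ Spec (CommRingCat.of k))]

/-- Intersection numbers of inverses. -/
theorem inum_inverses {F : X.Modules} (hF : Coh.IsCoh F) : ∀ {lL lM : List X.Modules},
    List.Forall₂ (fun L M => PicF.IsInvertible L ∧ ClSub.IsInverseOf L M) lL lM → ∀ {p : List X.Modules}, Inv p →
    topologicalKrullDim (CohB1.support F) ≤ ((lL.length + p.length : ℕ) : WithBot ℕ∞) →
    inum k (lM ++ p) F = (-1 : ℤ) ^ lL.length * inum k (lL ++ p) F
  | _, _, .nil, p, _, _ => by simp
  | L :: lL, M :: lM, .cons ⟨hL, hLM⟩ h, p, hp, hd => by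
    have hM := NegVanish.isInvertible_of_inverse hL hLM
    have hlL : Inv lL := fun A hA => by
      obtain ⟨B, -, hB⟩ := exists_mem_of_forall₂ h hA
      exact hB.1
    have hlM : Inv lM := fun A hA => by
      obtain ⟨B, -, hB⟩ := exists_mem_of_forall₂' h hA
      exact NegVanish.isInvertible_of_inverse hB.1 hB.2
    have happ : ∀ {a b : List X.Modules}, Inv a → Inv b → Inv (a ++ b) := fun ha hb A hA => by
      rcases List.mem_append.mp hA with h | h
      exacts [ha A h, hb A h]
    have hlen : lM.length = lL.length := h.length_eq.symm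
    rw [List.cons_append, inum_head_inverse k hL hM hLM (happ hlM hp) hF
      (hd.trans (by simp only [List.length_cons, List.length_append, hlen]; exact_mod_cast le_of_eq (by omega))),
      ← inum_perm k (List.perm_middle (a := L)) (happ hlM (hp.cons hL)),
      inum_inverses hF h (hp.cons hL) (hd.trans (by simp only [List.length_cons]; exact_mod_cast le_of_eq (by omega))),
      inum_perm k (List.perm_middle (a := L)) (happ hlL (hp.cons hL)), List.length_cons, pow_succ, List.cons_append]
    ring
where
  exists_mem_of_forall₂ {R : X.Modules → X.Modules → Prop} : ∀ {a b : List X.Modules}, List.Forall₂ R a b →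
      ∀ {x}, x ∈ a → ∃ y, y ∈ b ∧ R x y
    | _, _, .nil, x, hx => absurd hx List.not_mem_nil
    | _, _, .cons (a := a) (b := b) hr h, x, hx => by
      rcases List.mem_cons.mp hx with rfl | hx
      · exact ⟨b, List.mem_cons_self, hr⟩
      · obtain ⟨y, hy, hr'⟩ := exists_mem_of_forall₂ h hx
        exact ⟨y, List.mem_cons_of_mem _ hy, hr'⟩
  exists_mem_of_forall₂' {R : X.Modules → X.Modules → Prop} : ∀ {a b : List X.Modules}, List.Forall₂ R a b →
      ∀ {y}, y ∈ b → ∃ x, x ∈ a ∧ R x y
    | _, _, .nil, y, hy => absurd hy List.not_mem_nil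
    | _, _, .cons (a := a) (b := b) hr h, y, hy => by
      rcases List.mem_cons.mp hy with rfl | hy
      · exact ⟨a, List.mem_cons_self, hr⟩
      · obtain ⟨x, hx, hr'⟩ := exists_mem_of_forall₂' h hy
        exact ⟨x, List.mem_cons_of_mem _ hx, hr'⟩

/-- Ample modules have non-negative intersection numbers. -/
theorem inum_nonneg_of_ample : ∀ (r : ℕ) (X : Scheme.{u}) [X.Over (Spec (CommRingCat.of k))]
    [IsProper (X ↘ Spec (CommRingCat.of k))] [IsIntegral X] (l : List X.Modules), l.length = r →
    (∀ A ∈ l, CohB1.IsAmple A) → topologicalKrullDim X = (r : WithBot ℕ∞) → 0 ≤ inum k l (Coh.structureModule X) := by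
  intro r
  induction r with
  | zero =>
    intro X _ _ _ l hlen _ hX
    obtain rfl := List.length_eq_zero_iff.mp hlen
    haveI := isNoetherian_of_proper (X := X) k
    refine le_of_lt ?_
    have hO : Coh.IsCoh (Coh.structureModule X) := isCoh_of_isInvertible (HilbPoly.isInvertible_structureModule X)
    have hz : ∀ n, 1 ≤ n → Subsingleton (Coh.HH X (Coh.structureModule X) n) := fun n hn =>
      HilbPoly.subsingleton_HH_of_dim k hO (d := 0) ((topologicalKrullDim_subspace_le X _).trans hX.le) hn
    show 0 < Curv2.euler k X (Coh.structureModule X)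
    rw [euler_eq_sum (N := 1) hz, Finset.sum_range_one, pow_zero, one_mul]
    have := finite_HH (k := k) hO 0
    simp only [HilbPoly.hdim, Nat.cast_pos]
    refine Module.finrank_pos_iff_exists_ne_zero.mpr ?_
    let E : Coh.HH X (Coh.structureModule X) 0 ≃+ Γ(Coh.structureModule X, ⊤) :=
      (CohVanish.hEquiv (X := CohVanish.sp X) (Coh.toAb (Coh.structureModule X)) 0).trans (CohVanish.eu0 ⊤ _)
    haveI : Nonempty (⊤ : X.Opens) := ⟨⟨genericPoint X, trivial⟩⟩
    refine ⟨E.symm (show Γ(Coh.structureModule X, ⊤) from (1 : Γ(X, ⊤))), fun h => ?_⟩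
    have h' := congrArg E h
    rw [E.apply_symm_apply, map_zero] at h'
    exact one_ne_zero (α := Γ(X, ⊤)) h'
  | succ r ih =>
    intro X _ _ _ l hlen hl hX
    obtain ⟨A, l, rfl⟩ := List.exists_cons_of_length_eq_add_one hlen
    simp only [List.length_cons, Nat.add_right_cancel_iff] at hlen
    have hinv : Inv l := fun B hB => (hl B (List.mem_cons_of_mem _ hB)).1
    refine inum_cons_nonneg k (hl A (List.mem_cons_self)) hinv (by rw [hX, hlen]) fun W j _ _ hW => ?_
    letI : W.Over (Spec (CommRingCat.of k)) := ⟨j ≫ (X ↘ Spec (CommRingCat.of k))⟩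
    haveI : IsProper (W ↘ Spec (CommRingCat.of k)) :=
      inferInstanceAs (IsProper (j ≫ (X ↘ Spec (CommRingCat.of k))))
    refine ih W _ (by simpa using hlen) (fun B hB => ?_) (by rw [hW, hlen])
    obtain ⟨B', hB', rfl⟩ := List.mem_map.mp hB
    exact AmpleDescent.isAmple_pullback_affine (hl B' (List.mem_cons_of_mem _ hB')) j

/-- Ample modules have positive intersection numbers. -/
theorem inum_pos_of_ample [IsIntegral X] {r : ℕ} {l : List X.Modules} (hlen : l.length = r)
    (hl : ∀ A ∈ l, CohB1.IsAmple A) (hX : topologicalKrullDim X = (r : WithBot ℕ∞)) :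
    0 < inum k l (Coh.structureModule X) := by
  rcases r with - | r
  · obtain rfl := List.length_eq_zero_iff.mp hlen
    simpa using inum_pos_of_isAmple k (X := X) (A := Coh.structureModule X) (d := 0) (isAmple_of_inumOn_pos k
      (HilbPoly.isInvertible_structureModule X) fun W j _ _ d hd hW => by
        have h : topologicalKrullDim W ≤ topologicalKrullDim X := by
          rw [dim_source j]
          exact topologicalKrullDim_subspace_le X _
        rw [hW, hX] at h
        exact absurd (Nat.cast_le.mp h) (by omega)) hX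
  haveI := isNoetherian_of_proper (X := X) k
  haveI : X.IsSeparated := ⟨by rw [← terminal.comp_from (X ↘ Spec (CommRingCat.of k))]; infer_instance⟩
  obtain ⟨A₀, l', hl'⟩ := List.exists_cons_of_length_eq_add_one hlen
  have hA₀ : CohB1.IsAmple A₀ := hl A₀ (hl' ▸ List.mem_cons_self)
  obtain ⟨A₀', hA₀'⟩ := NegVanish.exists_inverse hA₀.1
  have hA₀'i := NegVanish.isInvertible_of_inverse hA₀.1 hA₀'
  suffices key : ∀ (rest : List X.Modules) (j : ℕ), (∀ A ∈ rest, CohB1.IsAmple A) → rest.length + j = r + 1 →
      0 < inum k (rest ++ List.replicate j A₀) (Coh.structureModule X) by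
    simpa using key l 0 hl (by omega)
  intro rest
  induction rest with
  | nil =>
    intro j _ hj
    simp only [List.length_nil, Nat.zero_add] at hj
    subst hj
    simpa using inum_pos_of_isAmple k hA₀ hX
  | cons A rest ih =>
    intro j hrest hj
    simp only [List.length_cons] at hj
    have hA : CohB1.IsAmple A := hrest A List.mem_cons_self
    have hrest' : ∀ B ∈ rest, CohB1.IsAmple B := fun B hB => hrest B (List.mem_cons_of_mem _ hB)
    obtain ⟨n₀, hn₀, hgen⟩ := S2329.result X A A₀' hA hA₀'i
    have hP := (hgen n₀ le_rfl).1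
    let l := rest ++ List.replicate j A₀
    have hlamp : ∀ B ∈ l, CohB1.IsAmple B := fun B hB => by
      rcases List.mem_append.mp hB with h | h
      · exact hrest' B h
      · rw [List.eq_of_mem_replicate h]; exact hA₀
    have hlinv : Inv l := fun B hB => (hlamp B hB).1
    have hllen : l.length = r := by simp [l]; omega
    have hd : topologicalKrullDim (CohB1.support (Coh.structureModule X)) ≤ ((l.length + 1 : ℕ) : WithBot ℕ∞) :=
      (topologicalKrullDim_subspace_le X _).trans (by rw [hX, hllen])
    have hO : Coh.IsCoh (Coh.structureModule X) := isCoh_of_isInvertible (HilbPoly.isInvertible_structureModule X)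
    have hnn : 0 ≤ inum k (CohB1.tensorMod (CohB1.tensorPow A n₀) A₀' :: l) (Coh.structureModule X) :=
      inum_nonneg_of_ample k (r + 1) X _ (by simp [hllen]) (fun B hB => by
        rcases List.mem_cons.mp hB with rfl | h
        exacts [hP, hlamp B h]) hX
    rw [inum_head_tensor k (isInvertible_tensorPow hA.1 n₀) hA₀'i hlinv hO hd, inum_head_pow k hA.1 hlinv hO hd,
      inum_head_inverse k hA₀.1 hA₀'i hA₀' hlinv hO hd] at hnn
    have h0 : 0 < inum k (A₀ :: l) (Coh.structureModule X) := by
      have := ih (j + 1) hrest' (by omega)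
      rwa [List.replicate_succ, inum_perm k List.perm_middle (fun B hB => by
        rcases List.mem_append.mp hB with h | h
        · exact (hrest' B h).1
        · exact ((Inv.replicate hA₀.1 j).cons hA₀.1) B h)] at this
    have h1 : 0 < (n₀ : ℤ) * inum k (A :: l) (Coh.structureModule X) := by linarith
    exact pos_of_mul_pos_right h1 (Int.natCast_nonneg _)

/-- Positivity against a coherent module of exact dimension. -/
theorem inum_pos_of_ample_module {l : List X.Modules} (hl : ∀ A ∈ l, CohB1.IsAmple A) {F : X.Modules}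
    (hF : Coh.IsCoh F) (hd : topologicalKrullDim (CohB1.support F) = (l.length : WithBot ℕ∞)) :
    0 < inum k l F := by
  have hinv : Inv l := fun A hA => (hl A hA).1
  obtain ⟨ι, _, m, W, j, hj, hm, hsum⟩ := inum_eq_sum_subvarieties k hinv hF hd.le
  obtain ⟨i₀, hi₀⟩ := hm hd
  have hpos : ∀ i, 0 < inumOn k (j i) l := fun i => by
    obtain ⟨h1, h2, -, h4⟩ := hj i
    haveI := h1
    haveI := h2
    letI : (W i).Over (Spec (CommRingCat.of k)) := ⟨j i ≫ (X ↘ Spec (CommRingCat.of k))⟩
    haveI : IsProper (W i ↘ Spec (CommRingCat.of k)) :=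
      inferInstanceAs (IsProper (j i ≫ (X ↘ Spec (CommRingCat.of k))))
    refine inum_pos_of_ample k (r := l.length) (by simp) (fun B hB => ?_) h4
    obtain ⟨B', hB', rfl⟩ := List.mem_map.mp hB
    exact AmpleDescent.isAmple_pullback_affine (hl B' hB') (j i)
  rw [hsum l hinv rfl]
  exact Finset.sum_pos' (fun i _ => mul_nonneg (Int.natCast_nonneg _) (hpos i).le)
    ⟨i₀, Finset.mem_univ _, mul_pos (Int.natCast_pos.mpr hi₀) (hpos i₀)⟩

end Groth.Agent.IntTh
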