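import Groth.Agent.IntTh.Subvar
import Groth.Agent.IntTh.H0
import Groth.Agent.IntTh.Criteria
import Groth.Agent.InvPow.GGSections
import Groth.Agent.S4367

/-!
# Lifting growth of sections along a closed subvariety for a globally generated module

If `M` is globally generated and `(M^m · W) ≠ 0` for an `m`-dimensional subvariety `W` then the sections of `M^μ`
restrict onto a space of dimension at least `C(μ + m, m)` on `W`; in particular `h⁰(M^μ) ≥ C(μ + m, m)`.
-/

universe u

open CategoryTheory CategoryTheory.Limits AlgebraicGeometry Opposite TopologicalSpace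
open scoped Groth.Agent.CohVanish

set_option autoImplicit false
set_option linter.style.haveILetI false
set_option backward.isDefEq.respectTransparency false
set_option maxHeartbeats 1600000

namespace Groth.Agent.IntTh

open InvBasic ProjUniv Groth.Agent.InvPow Groth.Agent.QCohLib Groth.Agent.HilbPoly Groth.Agent.CurveDeg Groth.Agent.CohFinite Groth.Agent.CechCmp

variable {X : Scheme.{u}}

/-- `F` twisted `μ` times by `M`, from the inside. -/
noncomputable def twist (M : X.Modules) : ℕ → X.Modules → X.Modules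
  | 0, F => F
  | μ + 1, F => twist M μ (CohB1.tensorMod F M)

/-- Functoriality of `twist`. -/
noncomputable def twistMap (M : X.Modules) : ∀ (μ : ℕ) {F G : X.Modules}, (F ⟶ G) → (twist M μ F ⟶ twist M μ G)
  | 0, _, _, f => f
  | μ + 1, _, _, f => twistMap M μ (tMap f M)

theorem twistMap_comp (M : X.Modules) : ∀ (μ : ℕ) {F G H : X.Modules} (f : F ⟶ G) (g : G ⟶ H),
    twistMap M μ (f ≫ g) = twistMap M μ f ≫ twistMap M μ g
  | 0, _, _, _, _, _ => rfl
  | μ + 1, _, _, _, f, g => by
    show twistMap M μ (tMap (f ≫ g) M) = _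
    rw [show tMap (f ≫ g) M = tMap f M ≫ tMap g M from LimSh.tensorModMap_comp _ _ _, twistMap_comp M μ]
    rfl

theorem twistMap_zero {M : X.Modules} (hM : PicF.IsInvertible M) : ∀ (μ : ℕ) (F G : X.Modules),
    twistMap M μ (0 : F ⟶ G) = 0
  | 0, _, _ => rfl
  | μ + 1, F, G => by
    show twistMap M μ (tMap (0 : F ⟶ G) M) = _
    rw [tMap_zero _ _ hM, twistMap_zero hM μ]

theorem mono_twistMap {M : X.Modules} (hM : PicF.IsInvertible M) : ∀ (μ : ℕ) {F G : X.Modules} (f : F ⟶ G) [Mono f],
    Mono (twistMap M μ f)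
  | 0, _, _, f, h => h
  | μ + 1, _, _, f, h => by
    haveI := mono_tMap f hM
    exact mono_twistMap hM μ (tMap f M)

theorem isCoh_twist [IsLocallyNoetherian X] {M : X.Modules} (hM : PicF.IsInvertible M) : ∀ (μ : ℕ) {F : X.Modules},
    Coh.IsCoh F → Coh.IsCoh (twist M μ F)
  | 0, _, h => h
  | μ + 1, _, h => isCoh_twist hM μ (isCoh_tensorMod h hM)

theorem nonempty_twist_iso {M : X.Modules} (hM : PicF.IsInvertible M) : ∀ (μ : ℕ) (F : X.Modules),
    Nonempty (twist M μ F ≅ CohB1.tensorMod F (CohB1.tensorPow M μ))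
  | 0, F => ⟨(SecTwist.unitorR F).symm⟩
  | μ + 1, F => by
    obtain ⟨e⟩ := nonempty_twist_iso hM μ (CohB1.tensorMod F M)
    obtain ⟨a⟩ := nonempty_assoc F hM (isInvertible_tensorPow hM μ)
    obtain ⟨c⟩ := ProjTwist.nonempty_tensorMod_comm M (CohB1.tensorPow M μ)
    exact ⟨e ≪≫ a.symm ≪≫ (ProjTwist.nonempty_tensorMod_iso (Iso.refl F) c).some⟩

theorem mulSection_natural {F G E : X.Modules} (f : F ⟶ G) (σ : Γ(E, ⊤)) :
    f ≫ mulSection G σ = mulSection F σ ≫ tMap f E := by
  ext W m
  exact (tMap_tmul f E W m _).symm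

/-- A section with no unit value on a reduced closed subscheme kills its direct image. -/
theorem mulSection_push_eq_zero {W : Scheme.{u}} [IsReduced W] (j : W ⟶ X) (N : W.Modules) {E : X.Modules}
    (hE : PicF.IsInvertible E) (σ : Γ(E, ⊤)) (h : ∀ w : W, j w ∉ genOpen hE σ) :
    mulSection ((Scheme.Modules.pushforward j).obj N) σ = 0 := by
  let F := (Scheme.Modules.pushforward j).obj N
  ext U m
  refine QCohLib.section_ext _ _ fun z hz => ?_
  obtain ⟨V, hzV, β, hβ⟩ := exists_isBasis hE z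
  let U' : X.Opens := U ⊓ V
  have hβ' := isBasis_res hβ (inf_le_right : U' ≤ V)
  obtain ⟨c, hc⟩ := exists_coef hβ' (gres E σ U')
  have hc0 : j.app U' c = 0 := by
    rw [← basicOpen_eq_bot_iff]
    rw [← Scheme.preimage_basicOpen, ← genOpen_inf_eq_basicOpen hE hβ' hc]
    exact TopologicalSpace.Opens.ext (Set.eq_empty_iff_forall_notMem.mpr fun w hw => h w hw.1)
  have hkill : ∀ n : Γ(F, U'), c • n = 0 := fun n => by
    show (j.app U' c) • (show Γ(N, j ⁻¹ᵁ U') from n) = 0
    rw [hc0, zero_smul]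
  show (CohB1.tensorMod F E).presheaf.germ U z hz (SecTwist.tmul F E U m (gres E σ U)) =
    (CohB1.tensorMod F E).presheaf.germ U z hz 0
  rw [← TopCat.Presheaf.germ_res_apply (CohB1.tensorMod F E).presheaf (homOfLE (inf_le_left : U' ≤ U)) z ⟨hz, hzV⟩,
    map_zero]
  refine (congrArg _ ?_).trans (map_zero _)
  refine (HilbPoly.res_tmul F E (inf_le_left : U' ≤ U) m _).trans ?_
  have hres : res E (inf_le_left : U' ≤ U) (gres E σ U) = gres E σ U' := by
    simp only [gres, res_res]
    rfl
  rw [hres, hc, ProjCoh.tmul_smul_right, hkill, ProjCoh.tmul_zero_left]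

theorem mono_mulSection_push {W : Scheme.{u}} [IsIntegral W] (j : W ⟶ X) {E : X.Modules}
    (hE : PicF.IsInvertible E) (σ : Γ(E, ⊤)) (h : ∃ w : W, j w ∈ genOpen hE σ) :
    Mono (mulSection ((Scheme.Modules.pushforward j).obj (Coh.structureModule W)) σ) := by
  refine mono_mulSection _ hE σ fun U => ?_
  show Function.Injective (W.presheaf.map (homOfLE (inf_le_left : j ⁻¹ᵁ U ⊓ j ⁻¹ᵁ genOpen hE σ ≤ j ⁻¹ᵁ U)).op)
  by_cases hU : ((j ⁻¹ᵁ U : W.Opens) : Set W).Nonempty
  · obtain ⟨w, hw⟩ := h
    obtain ⟨y, hy⟩ := nonempty_preirreducible_inter (j ⁻¹ᵁ U).2 (j ⁻¹ᵁ genOpen hE σ).2 hU ⟨w, hw⟩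
    haveI : Nonempty (j ⁻¹ᵁ U) := ⟨⟨_, hU.choose_spec⟩⟩
    haveI : Nonempty ((j ⁻¹ᵁ U ⊓ j ⁻¹ᵁ genOpen hE σ : W.Opens)) := ⟨⟨y, hy⟩⟩
    exact map_injective_of_isIntegral W _
  · intro a b _
    exact QCohLib.section_ext (show Γ(Coh.structureModule W, j ⁻¹ᵁ U) from a) b fun y hy => (hU ⟨y, hy⟩).elim

variable (k : Type u) [Field k] [X.Over (Spec (CommRingCat.of k))]

/-- The linear map on `H⁰`. -/
noncomputable def h0Map {F G : X.Modules} (f : F ⟶ G) :
    HMod (modRSh (Coh.toGlobal (X ↘ Spec (CommRingCat.of k))) F) ⊤ 0 →ₗ[k]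
      HMod (modRSh (Coh.toGlobal (X ↘ Spec (CommRingCat.of k))) G) ⊤ 0 :=
  mapHMod (CechCmp.modHom (Coh.toGlobal (X ↘ Spec (CommRingCat.of k))) f) ⊤ 0

theorem h0Map_comp {F G H : X.Modules} (f : F ⟶ G) (g : G ⟶ H) : h0Map k (f ≫ g) = (h0Map k g).comp (h0Map k f) :=
  LinearMap.ext fun x => (congrArg (fun a => CohVanish.eMap a ⊤ 0 x) ((CohVanish.toAbF X).map_comp f g)).trans
    (CohVanish.eMap_comp _ _ ⊤ 0 x)

theorem h0Map_zero (F G : X.Modules) : h0Map k (0 : F ⟶ G) = 0 :=
  LinearMap.ext fun x => (CohVanish.eu0 ⊤ _).injective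
    ((CohVanish.eu0_eMap _ ⊤ x).trans (Eq.trans (by rfl) (map_zero (CohVanish.eu0 ⊤ _)).symm))

theorem h0Map_injective {F G : X.Modules} (f : F ⟶ G) [Mono f] : Function.Injective (h0Map k f) :=
  CohFinite.eMap_injective_of_mono (inferInstanceAs (Mono ((CohVanish.toAbF X).map f))) ⊤

theorem h0Map_ne_zero {F G : X.Modules} (f : F ⟶ G) (h : ∃ s : Γ(F, ⊤), f.app ⊤ s ≠ 0) : h0Map k f ≠ 0 := by
  obtain ⟨s, hs⟩ := h
  intro h0
  apply hs
  have := LinearMap.congr_fun h0 ((CohVanish.eu0 ⊤ _).symm s)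
  have h1 := congrArg (CohVanish.eu0 ⊤ _) this
  rw [h0Map] at h1
  erw [CohVanish.eu0_eMap, AddEquiv.apply_symm_apply] at h1
  exact h1.trans (map_zero _)

/-- The rank on sections of a twisted morphism from `𝒪`. -/
noncomputable def secRank (M : X.Modules) (μ : ℕ) {F : X.Modules} (π : Coh.structureModule X ⟶ F) : ℕ :=
  Module.finrank k (LinearMap.range (h0Map k (twistMap M μ π)))

variable [IsProper (X ↘ Spec (CommRingCat.of k))]

theorem finite_h0 {F : X.Modules} (hF : Coh.IsCoh F) :
    Module.Finite k (HMod (modRSh (Coh.toGlobal (X ↘ Spec (CommRingCat.of k))) F) ⊤ 0) :=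
  allFin_of_isProper (X ↘ Spec (CommRingCat.of k)) _ hF 0

theorem secRank_le_hdim {M : X.Modules} (hM : PicF.IsInvertible M) (μ : ℕ) {F : X.Modules}
    (π : Coh.structureModule X ⟶ F) : (secRank k M μ π : ℤ) ≤ hdim k X (CohB1.tensorPow M μ) 0 := by
  haveI := isNoetherian_of_proper (X := X) k
  have hO : Coh.IsCoh (Coh.structureModule X) := isCoh_of_isInvertible (HilbPoly.isInvertible_structureModule X)
  haveI := finite_h0 k (isCoh_twist hM μ hO)
  obtain ⟨e⟩ := nonempty_twist_iso hM μ (Coh.structureModule X)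
  obtain ⟨c⟩ := ProjTwist.nonempty_tensorMod_comm (Coh.structureModule X) (CohB1.tensorPow M μ)
  rw [← CurveDeg.hdim_congr k (e ≪≫ c ≪≫ SecTwist.unitorR _) 0, HilbPoly.hdim, (hhEquiv _ 0).finrank_eq]
  exact_mod_cast LinearMap.finrank_range_le _

theorem secRank_succ {M : X.Modules} (hM : PicF.IsInvertible M) (σ : Γ(M, ⊤)) (μ : ℕ) {F : X.Modules}
    (π : Coh.structureModule X ⟶ F) [Mono (mulSection F σ)] :
    secRank k M μ π ≤ secRank k M (μ + 1) π ∧
      ∀ {F' : X.Modules} (g : F ⟶ F'), mulSection F' σ = 0 →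
        secRank k M μ π + secRank k M (μ + 1) (π ≫ g) ≤ secRank k M (μ + 1) π := by
  haveI := isNoetherian_of_proper (X := X) k
  have hO : Coh.IsCoh (Coh.structureModule X) := isCoh_of_isInvertible (HilbPoly.isInvertible_structureModule X)
  haveI := finite_h0 k (isCoh_twist hM (μ + 1) hO)
  let mF : twist M μ F ⟶ twist M (μ + 1) F := twistMap M μ (mulSection F σ)
  let mO : twist M μ (Coh.structureModule X) ⟶ twist M (μ + 1) (Coh.structureModule X) :=
    twistMap M μ (mulSection (Coh.structureModule X) σ)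
  let r := h0Map k (twistMap M μ π)
  let r' := h0Map k (twistMap M (μ + 1) π)
  haveI : Mono mF := mono_twistMap hM μ _
  have sq : r'.comp (h0Map k mO) = (h0Map k mF).comp r := by
    rw [← h0Map_comp, ← h0Map_comp]
    refine congrArg (h0Map k) ?_
    show twistMap M μ _ ≫ twistMap M μ (tMap π M) = twistMap M μ π ≫ twistMap M μ _
    rw [← twistMap_comp, ← twistMap_comp, mulSection_natural]
  have hsub : (LinearMap.range r).map (h0Map k mF) ≤ LinearMap.range r' := by
    rw [← LinearMap.range_comp, ← sq]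
    exact LinearMap.range_comp_le_range _ _
  have hrank : Module.finrank k ((LinearMap.range r).map (h0Map k mF)) = secRank k M μ π :=
    (Submodule.equivMapOfInjective _ (h0Map_injective k mF) _).symm.finrank_eq
  refine ⟨hrank.symm.trans_le (Submodule.finrank_mono hsub), fun {F'} g hg => ?_⟩
  let q := h0Map k (twistMap M (μ + 1) g)
  have hq : q.comp (h0Map k mF) = 0 := by
    rw [← h0Map_comp, ← h0Map_zero]
    refine congrArg (h0Map k) ?_
    show twistMap M μ _ ≫ twistMap M μ (tMap g M) = 0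
    rw [← twistMap_comp, ← mulSection_natural, hg, comp_zero, twistMap_zero hM]
  have hπg : secRank k M (μ + 1) (π ≫ g) = Module.finrank k (LinearMap.range (q.domRestrict (LinearMap.range r'))) := by
    unfold secRank
    rw [twistMap_comp, h0Map_comp, LinearMap.range_comp, LinearMap.range_domRestrict]
  have h1 := (q.domRestrict (LinearMap.range r')).finrank_range_add_finrank_ker
  rw [← hπg] at h1
  have hker : secRank k M μ π ≤ Module.finrank k (LinearMap.ker (q.domRestrict (LinearMap.range r'))) := by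
    rw [← hrank, ← (Submodule.comapSubtypeEquivOfLe hsub).finrank_eq]
    refine Submodule.finrank_mono fun x hx => ?_
    obtain ⟨y, -, hy⟩ := hx
    show q (x : _) = 0
    exact (congrArg q hy.symm).trans (LinearMap.congr_fun hq y)
  show _ ≤ Module.finrank k (LinearMap.range r')
  omega

theorem secRank_zero_pos {M : X.Modules} {F : X.Modules} (hF : Coh.IsCoh F) (π : Coh.structureModule X ⟶ F)
    (h : ∃ s : Γ(Coh.structureModule X, ⊤), π.app ⊤ s ≠ 0) : 1 ≤ secRank k M 0 π := by
  haveI := isNoetherian_of_proper (X := X) k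
  haveI : Module.Finite k (HMod (modRSh (Coh.toGlobal (X ↘ Spec (CommRingCat.of k))) (twist M 0 F)) ⊤ 0) :=
    finite_h0 k hF
  haveI : IsNoetherian k (HMod (modRSh (Coh.toGlobal (X ↘ Spec (CommRingCat.of k))) (twist M 0 F)) ⊤ 0) :=
    isNoetherian_of_isNoetherianRing_of_finite k _
  have hne : LinearMap.range (h0Map k (twistMap M 0 π)) ≠ ⊥ := fun e =>
    h0Map_ne_zero k π h (LinearMap.range_eq_bot.mp e)
  haveI : Nontrivial (LinearMap.range (h0Map k (twistMap M 0 π))) := Submodule.nontrivial_iff_ne_bot.mpr hne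
  exact Module.finrank_pos

/-- Sections restrict onto a space of dimension at least `C(μ + m, m)`. -/
theorem choose_le_secRank {M : X.Modules} (hM : PicF.IsInvertible M) (hgg : Curv2.IsGloballyGenerated M) :
    ∀ (m : ℕ) (W : Scheme.{u}) (j : W ⟶ X) [IsClosedImmersion j] [IsIntegral W],
      topologicalKrullDim W = (m : WithBot ℕ∞) → inumOn k j (List.replicate m M) ≠ 0 →
      ∀ π : Coh.structureModule X ⟶ (Scheme.Modules.pushforward j).obj (Coh.structureModule W),
        π.app ⊤ (1 : Γ(X, ⊤)) = (show Γ(W, ⊤) from 1) → ∀ μ : ℕ, (μ + m).choose m ≤ secRank k M μ π := by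
  haveI := isNoetherian_of_proper (X := X) k
  intro m
  induction m with
  | zero =>
    intro W j _ _ _ _ π hπ μ
    have hFc : Coh.IsCoh ((Scheme.Modules.pushforward j).obj (Coh.structureModule W)) :=
      isCoh_push_ideal j (𝟙 _) (InvBasic.isQuasicoherent_structureModule _)
    obtain ⟨σ, hx⟩ := exists_gen_of_isGloballyGenerated hM hgg (j (genericPoint W))
    haveI := mono_mulSection_push j hM σ ⟨_, hx⟩
    rw [Nat.choose_zero_right]
    induction μ with
    | zero => exact secRank_zero_pos k hFc π ⟨(1 : Γ(X, ⊤)), fun e => one_ne_zero (α := Γ(W, ⊤)) (hπ.symm.trans e)⟩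
    | succ μ ih => exact ih.trans (secRank_succ k hM σ μ π).1
  | succ m ih =>
    intro W j _ _ hW hne π hπ μ
    let F := (Scheme.Modules.pushforward j).obj (Coh.structureModule W)
    have hFc : Coh.IsCoh F := isCoh_push_ideal j (𝟙 _) (InvBasic.isQuasicoherent_structureModule _)
    obtain ⟨σ, hx⟩ := exists_gen_of_isGloballyGenerated hM hgg (j (genericPoint W))
    haveI := mono_mulSection_push j hM σ ⟨_, hx⟩
    have hl := Inv.replicate hM m
    let Q := cokernel (mulSection F σ)
    have hFM := isCoh_tensorMod hFc hM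
    have hQ : Coh.IsCoh Q := QCohLib.isCoh_cokernel _ hFc.1 hFM
    have hQsub : CohB1.support Q ⊆ Set.range j :=
      (support_subset_of_epi (cokernel.π (mulSection F σ))).trans
        (((HilbPoly.support_tensorMod F hM).subset).trans (support_pushforward_subset j _))
    have hQdisj := disjoint_support_cokernel_mulSection F hM σ
    have hQd : topologicalKrullDim (CohB1.support Q) ≤ (m : WithBot ℕ∞) := by
      have h1 := dim_le_of_disjoint (X := W) hW.le ((QCohLib.isClosed_support hQ.2).preimage j.continuous)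
        (U := j ⁻¹ᵁ genOpen hM σ) ⟨genericPoint W, hx⟩ (hQdisj.preimage j)
      rwa [← FibreDim.dim_image j.isClosedEmbedding.isEmbedding, Set.image_preimage_eq_of_subset hQsub] at h1
    have hQne : inum k (List.replicate m M) Q ≠ 0 := by
      have h := inum_additive k hl (CohFinite.shortExact_cokernel (mulSection F σ)) hFc hFM hQ
      change inum k _ (CohB1.tensorMod F M) = inum k _ F + inum k _ Q at h
      have h2 : inum k (M :: List.replicate m M) F = inumOn k j (List.replicate (m + 1) M) := by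
        rw [← List.replicate_succ]
        exact inum_push k j (Inv.replicate hM _) _ (InvBasic.isQuasicoherent_structureModule _)
      rw [inum, h] at h2
      intro h0
      apply hne
      rw [← h2, h0]
      ring
    have hex : ∃ (V : Scheme.{u}) (v : V ⟶ X) (_ : IsClosedImmersion v) (_ : IsIntegral V),
        Set.range v ⊆ CohB1.support Q ∧ topologicalKrullDim V = (m : WithBot ℕ∞) ∧
          inumOn k v (List.replicate m M) ≠ 0 := by
      by_contra hc
      refine hQne (inum_eq_zero k hl hQ (by simpa using hQd) fun V v hv hV hrange hVd => ?_)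
      by_contra hv0
      exact hc ⟨V, v, hv, hV, hrange, by simpa using hVd, hv0⟩
    obtain ⟨V, v, hv, hV, hrange, hVd, hv0⟩ := hex
    haveI := hv
    haveI := hV
    obtain ⟨i, rfl⟩ := Groth.Agent.S4367.result v j (hrange.trans hQsub)
    haveI : IsClosedImmersion i := IsClosedImmersion.of_comp i j
    let g : F ⟶ (Scheme.Modules.pushforward (i ≫ j)).obj (Coh.structureModule V) :=
      (Scheme.Modules.pushforward j).map
          (ProjTwist.globalHom ((Scheme.Modules.pushforward i).obj (Coh.structureModule V)) (1 : Γ(V, ⊤))) ≫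
        (Scheme.Modules.pushforwardComp i j).hom.app (Coh.structureModule V)
    have hg1 : g.app ⊤ (1 : Γ(W, ⊤)) = (1 : Γ(V, ⊤)) := by
      show (ProjTwist.globalHom ((Scheme.Modules.pushforward i).obj (Coh.structureModule V)) (1 : Γ(V, ⊤))).app ⊤
        (1 : Γ(W, ⊤)) = _
      rw [ProjTwist.globalHom_app, one_smul]
      exact map_one (V.presheaf.map _).hom
    have hπg : (π ≫ g).app ⊤ (1 : Γ(X, ⊤)) = (1 : Γ(V, ⊤)) := by
      show g.app ⊤ (π.app ⊤ (1 : Γ(X, ⊤))) = _
      rw [hπ]
      exact hg1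
    have hkill := mulSection_push_eq_zero (i ≫ j) (Coh.structureModule V) hM σ
      fun y => Set.disjoint_left.mp hQdisj (hrange ⟨y, rfl⟩)
    induction μ with
    | zero =>
      rw [Nat.zero_add, Nat.choose_self]
      exact secRank_zero_pos k hFc π ⟨(1 : Γ(X, ⊤)), fun e => one_ne_zero (α := Γ(W, ⊤)) (hπ.symm.trans e)⟩
    | succ μ ihμ =>
      have h1 := (secRank_succ k hM σ μ π).2 g hkill
      have h2 := ih V (i ≫ j) hVd hv0 (π ≫ g) hπg (μ + 1)
      rw [show μ + 1 + (m + 1) = (μ + m + 1) + 1 from by omega, Nat.choose_succ_succ']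
      rw [show μ + (m + 1) = μ + m + 1 from rfl] at ihμ
      rw [show μ + 1 + m = μ + m + 1 from by omega] at h2
      omega

/-- `h⁰(M^μ) ≥ C(μ + m, m)`. -/
theorem choose_le_hdim {M : X.Modules} (hM : PicF.IsInvertible M) (hgg : Curv2.IsGloballyGenerated M)
    {m : ℕ} {W : Scheme.{u}} (j : W ⟶ X) [IsClosedImmersion j] [IsIntegral W]
    (hW : topologicalKrullDim W = (m : WithBot ℕ∞)) (h : inumOn k j (List.replicate m M) ≠ 0) (μ : ℕ) :
    ((μ + m).choose m : ℤ) ≤ hdim k X (CohB1.tensorPow M μ) 0 := by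
  let π := ProjTwist.globalHom ((Scheme.Modules.pushforward j).obj (Coh.structureModule W)) (1 : Γ(W, ⊤))
  have hπ : π.app ⊤ (1 : Γ(X, ⊤)) = (show Γ(W, ⊤) from 1) := by
    rw [ProjTwist.globalHom_app, one_smul]
    exact map_one (W.presheaf.map _).hom
  exact le_trans (by exact_mod_cast choose_le_secRank k hM hgg m W j hW h π hπ μ) (secRank_le_hdim k hM μ π)

end Groth.Agent.IntTh
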