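import Groth.Agent.IntTh.Inum
import Groth.Agent.CurveDeg.Components

/-!
# Intersection numbers: reduction to subvarieties, cutting, numerical invariance
-/

universe u

open CategoryTheory CategoryTheory.Limits AlgebraicGeometry Opposite TopologicalSpace

set_option backward.isDefEq.respectTransparency false
set_option maxHeartbeats 800000

namespace Groth.Agent.IntTh

open InvBasic ProjUniv Groth.Agent.InvPow Groth.Agent.QCohLib Groth.Agent.HilbPoly Groth.Agent.CurveDeg Groth.Agent.CohFinite

variable (k : Type u) [Field k]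

/-- The intersection numbers of the restrictions of `l` to a closed subscheme. -/
noncomputable def inumOn {X : Scheme.{u}} [X.Over (Spec (CommRingCat.of k))] {W : Scheme.{u}} (j : W ⟶ X)
    (l : List X.Modules) : ℤ :=
  @inum W k _ ⟨j ≫ (X ↘ Spec (CommRingCat.of k))⟩ (l.map (Scheme.Modules.pullback j).obj) (Coh.structureModule W)

variable {X : Scheme.{u}} [X.Over (Spec (CommRingCat.of k))]

theorem inumOn_comp {W V : Scheme.{u}} [W.Over (Spec (CommRingCat.of k))] (i : V ⟶ W) (j : W ⟶ X)
    (hj : j ≫ (X ↘ Spec (CommRingCat.of k)) = W ↘ Spec (CommRingCat.of k)) (l : List X.Modules) :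
    inumOn k (i ≫ j) l = inumOn k i (l.map (Scheme.Modules.pullback j).obj) := by
  unfold inumOn
  rw [List.map_map]
  have h : (i ≫ j) ≫ (X ↘ Spec (CommRingCat.of k)) = i ≫ (W ↘ Spec (CommRingCat.of k)) := by
    rw [Category.assoc, hj]
  rw [h]
  letI : V.Over (Spec (CommRingCat.of k)) := ⟨i ≫ (W ↘ Spec (CommRingCat.of k))⟩
  refine inum_congr_mods k ?_ _
  rw [List.forall₂_map_left_iff, List.forall₂_map_right_iff]
  exact List.forall₂_same.mpr fun A _ => ⟨((Scheme.Modules.pullbackComp i j).app A).symm⟩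

variable [IsProper (X ↘ Spec (CommRingCat.of k))]

include k in
/-- The length at a maximal point of the support is finite. -/
theorem stkLen_ne_top {F : X.Modules} (hF : Coh.IsCoh F) {ξ : X}
    (hmax : ∀ y ∈ CohB1.support F, y ⤳ ξ → y = ξ) : stkLen F ξ ≠ ⊤ := by
  have : IsLocallyNoetherian X := LocallyOfFiniteType.isLocallyNoetherian (X ↘ Spec (CommRingCat.of k))
  have : CompactSpace X := QuasiCompact.compactSpace_of_compactSpace (X ↘ Spec (CommRingCat.of k))
  have : IsNoetherian X := ⟨⟩
  refine devissage_ext (fun M => stkLen M ξ ≠ ⊤) ?_ ?_ (X' := CohB1.support F) ?_ ?_ F hF subset_rfl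
  · rintro A B ⟨e⟩ h
    rwa [← stkLen_congr e ξ]
  · intro A hA
    rw [stkLen_eq_zero (by rw [support_eq_empty_of_isZero hA]; exact Set.notMem_empty ξ)]
    simp
  · intro S hS _ _ _ _ h₁ h₃
    rw [stkLen_additive hS]
    exact WithTop.add_ne_top.mpr ⟨h₁, h₃⟩
  · intro Z i _ _ hZ I ι _ hI _
    by_cases hξ : ξ ∈ CohB1.support ((Coh.push i).obj I)
    swap
    · rw [stkLen_eq_zero hξ]; simp
    have hr : ξ ∈ Set.range i := support_pushforward_subset i I hξ
    have hη : i (genericPoint Z) = ξ := hmax _ (hZ ⟨_, rfl⟩)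
      (specializes_iff_mem_closure.mpr ((closure_genericPoint i).ge hr))
    let f : (Coh.push i).obj I ⟶ (Coh.push i).obj (Coh.structureModule Z) := (Coh.push i).map ι
    have : Mono f := by
      refine (mono_iff_app_injective f).mpr fun V => ?_
      exact (mono_iff_app_injective ι).mp inferInstance (i ⁻¹ᵁ V)
    have h := stkLen_additive (CohFinite.shortExact_cokernel f) ξ
    dsimp only at h
    rw [← hη, stkLen_push_structureModule i, hη] at h
    intro htop
    rw [htop, top_add] at h
    exact ENat.one_ne_top h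

/-- A coherent module's intersection number is a non-negative combination of those of the integral closed
subschemes of the expected dimension. -/
theorem inum_eq_sum_subvarieties {l : List X.Modules} (hl : Inv l) {F : X.Modules} (hF : Coh.IsCoh F)
    (hd : topologicalKrullDim (CohB1.support F) ≤ (l.length : WithBot ℕ∞)) :
    ∃ (ι : Type u) (_ : Fintype ι) (m : ι → ℕ) (W : ι → Scheme.{u}) (j : ∀ i, W i ⟶ X),
      (∀ i, IsClosedImmersion (j i) ∧ IsIntegral (W i) ∧ Set.range (j i) ⊆ CohB1.support F ∧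
        topologicalKrullDim (W i) = (l.length : WithBot ℕ∞)) ∧
      (topologicalKrullDim (CohB1.support F) = (l.length : WithBot ℕ∞) → ∃ i, 0 < m i) ∧
      ∀ l' : List X.Modules, Inv l' → l'.length = l.length → inum k l' F = ∑ i, (m i : ℤ) * inumOn k (j i) l' := by
  classical
  have : IsLocallyNoetherian X := LocallyOfFiniteType.isLocallyNoetherian (X ↘ Spec (CommRingCat.of k))
  have : CompactSpace X := QuasiCompact.compactSpace_of_compactSpace (X ↘ Spec (CommRingCat.of k))
  have : IsNoetherian X := ⟨⟩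
  have hsc := QCohLib.isClosed_support hF.2
  let C : X → Closeds X := fun ξ => ⟨closure ({ξ} : Set X), isClosed_closure⟩
  have hsub : ∀ ξ ∈ CohB1.support F, closure ({ξ} : Set X) ⊆ CohB1.support F := fun ξ hξ =>
    hsc.closure_subset_iff.mpr (Set.singleton_subset_iff.mpr hξ)
  rcases hd.lt_or_eq with hlt | heq
  · exact ⟨PEmpty, inferInstance, PEmpty.elim, PEmpty.elim, fun i => i.elim, fun i => i.elim,
      fun h => absurd h hlt.ne,
      fun l' hl' hlen => by rw [inum_eq_zero_of_dim k hl' hF (by rwa [hlen]), Finset.sum_of_isEmpty]⟩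
  let T := finite_topPoints hsc heq
  let ι := {ξ : X // ξ ∈ T.toFinset}
  refine ⟨ι, inferInstance, fun ξ => (stkLen F ξ.1).toNat,
    fun ξ => (Scheme.IdealSheafData.vanishingIdeal (C ξ.1)).subscheme,
    fun ξ => (Scheme.IdealSheafData.vanishingIdeal (C ξ.1)).subschemeι, fun ξ => ?_, fun _ => ?_, fun l' hl' hlen => ?_⟩
  · have hξ : ξ.1 ∈ CohB1.support F ∧ topologicalKrullDim ↥(closure ({ξ.1} : Set X)) = l.length := by
      exact T.mem_toFinset.mp ξ.2
    have hr : Set.range (Scheme.IdealSheafData.vanishingIdeal (C ξ.1)).subschemeι = closure {ξ.1} :=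
      CohFinite.range_vanishingIdeal_subschemeι isClosed_closure
    refine ⟨inferInstance, CohFinite.isIntegral_vanishingIdeal isClosed_closure isIrreducible_singleton.closure, ?_, ?_⟩
    · rw [hr]; exact hsub _ hξ.1
    · rw [dim_source (Scheme.IdealSheafData.vanishingIdeal (C ξ.1)).subschemeι, hr, hξ.2]
  · obtain ⟨ξ, hξ, hξd⟩ := exists_point_of_dim k hsc heq
    refine ⟨⟨ξ, T.mem_toFinset.mpr ⟨hξ, hξd⟩⟩, Nat.pos_of_ne_zero fun h0 => ?_⟩
    have hmax : ∀ y ∈ CohB1.support F, y ⤳ ξ → y = ξ := fun y hy hyξ => by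
      obtain ⟨n, hn⟩ := exists_dim_closure k y
      have h1 := (HilbPoly.dim_mono (hsub y hy)).trans heq.le
      rw [hn] at h1
      exact (eq_of_dim_closure hyξ hξd hn (by exact_mod_cast h1)).symm
    rcases ENat.toNat_eq_zero.mp h0 with h | h
    · exact notMem_support_of_stkLen_eq_zero h hξ
    · exact stkLen_ne_top k hF hmax h
  have hL : ∀ i, PicF.IsInvertible (l'.get i) := fun i => hl' _ (List.get_mem l' i)
  obtain ⟨D, hD⟩ := exists_dim_le k X
  have hXd : topologicalKrullDim X ≤ (D : WithBot ℕ∞) :=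
    (IsHomeomorph.topologicalKrullDim_eq _ (Homeomorph.Set.univ X).isHomeomorph).symm.le.trans (hD _)
  have h := intNum_eq_sum_components k hXd hL hF (by rw [hlen]; exact heq.le) (s := T.toFinset)
    (fun ξ => by rw [hlen]; exact T.mem_toFinset)
  rw [intNum_eq k hXd hL hF, Finset.sum_congr rfl fun ξ (_ : ξ ∈ T.toFinset) => by
    rw [intNum_eq k hXd hL (isCoh_quotMod _), mul_left_comm], ← Finset.mul_sum, List.ofFn_get] at h
  rw [mul_left_cancel₀ (pow_ne_zero _ (by norm_num)) h, ← Finset.sum_coe_sort T.toFinset]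
  refine Finset.sum_congr rfl fun ξ _ => ?_
  refine congrArg (fun z => ((stkLen F ξ.1).toNat : ℤ) * z) ?_
  exact inum_push k (Scheme.IdealSheafData.vanishingIdeal (C ξ.1)).subschemeι hl' _
    (InvBasic.isQuasicoherent_structureModule _)

/-- Non-negativity is tested on integral closed subschemes. -/
theorem inum_nonneg {l : List X.Modules} (hl : Inv l) {F : X.Modules} (hF : Coh.IsCoh F)
    (hd : topologicalKrullDim (CohB1.support F) ≤ (l.length : WithBot ℕ∞))
    (h : ∀ (W : Scheme.{u}) (j : W ⟶ X) [IsClosedImmersion j] [IsIntegral W],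
      Set.range j ⊆ CohB1.support F → topologicalKrullDim W = (l.length : WithBot ℕ∞) → 0 ≤ inumOn k j l) :
    0 ≤ inum k l F := by
  obtain ⟨ι, _, m, W, j, hj, -, hsum⟩ := inum_eq_sum_subvarieties k hl hF hd
  rw [hsum l hl rfl]
  refine Finset.sum_nonneg fun i _ => ?_
  obtain ⟨h1, h2, h3, h4⟩ := hj i
  haveI := h1
  haveI := h2
  exact mul_nonneg (Int.natCast_nonneg _) (h (W i) (j i) h3 h4)

/-- Vanishing is tested on integral closed subschemes. -/
theorem inum_eq_zero {l : List X.Modules} (hl : Inv l) {F : X.Modules} (hF : Coh.IsCoh F)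
    (hd : topologicalKrullDim (CohB1.support F) ≤ (l.length : WithBot ℕ∞))
    (h : ∀ (W : Scheme.{u}) (j : W ⟶ X) [IsClosedImmersion j] [IsIntegral W],
      Set.range j ⊆ CohB1.support F → topologicalKrullDim W = (l.length : WithBot ℕ∞) → inumOn k j l = 0) :
    inum k l F = 0 := by
  obtain ⟨ι, _, m, W, j, hj, -, hsum⟩ := inum_eq_sum_subvarieties k hl hF hd
  rw [hsum l hl rfl]
  refine Finset.sum_eq_zero fun i _ => ?_
  obtain ⟨h1, h2, h3, h4⟩ := hj i
  haveI := h1
  haveI := h2
  rw [h (W i) (j i) h3 h4, mul_zero]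

omit [X.Over (Spec (CommRingCat.of k))] [IsProper (X ↘ Spec (CommRingCat.of k))] in
/-- A closed set missing a non-empty open of an integral scheme is smaller. -/
theorem dim_le_of_disjoint [IsIntegral X] {e : ℕ} (hX : topologicalKrullDim X ≤ ((e + 1 : ℕ) : WithBot ℕ∞))
    {S : Set X} (hS : IsClosed S) {U : X.Opens} (hU : (U : Set X).Nonempty) (hSU : Disjoint S (U : Set X)) :
    topologicalKrullDim S ≤ (e : WithBot ℕ∞) := by
  have hne : S ≠ Set.univ := fun h => hU.ne_empty (Set.disjoint_univ.mp (h ▸ hSU).symm)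
  have hlt : topologicalKrullDim (Set.univ : Set X) < ((e + 1 + 1 : ℕ) : WithBot ℕ∞) :=
    ((topologicalKrullDim_subspace_le X _).trans hX).trans_lt (by exact_mod_cast Nat.lt_succ_self (e + 1))
  have h := HilbPoly.dim_lt_of_ssubset hS (IrreducibleSpace.isIrreducible_univ X) isClosed_univ
    ((Set.subset_univ S).ssubset_of_ne hne) hlt
  rw [Nat.cast_add, Nat.cast_one] at h
  exact ENat.WithBot.lt_add_one_iff.mp h

/-- Cutting with the divisor of a non-zero section. -/
theorem inum_cut [IsIntegral X] {A : X.Modules} (hA : PicF.IsInvertible A) (σ : Γ(A, ⊤)) (hσ : σ ≠ 0)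
    {l : List X.Modules} (hl : Inv l) (hX : topologicalKrullDim X ≤ ((l.length + 1 : ℕ) : WithBot ℕ∞)) :
    let Q := cokernel (mulSection (Coh.structureModule X) σ)
    Coh.IsCoh Q ∧ topologicalKrullDim (CohB1.support Q) ≤ (l.length : WithBot ℕ∞) ∧
      Disjoint (CohB1.support Q) (genOpen hA σ : Set X) ∧
      inum k (A :: l) (Coh.structureModule X) = inum k l Q := by
  intro Q
  haveI := isNoetherian_of_proper (X := X) k
  let O := Coh.structureModule X
  have hO : Coh.IsCoh O := isCoh_of_isInvertible (HilbPoly.isInvertible_structureModule X)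
  have hne := genOpen_nonempty_of_ne_zero hA hσ
  haveI : Mono (mulSection O σ) := mono_mulSection_invertible (HilbPoly.isInvertible_structureModule X) hA σ hne
  have hOA := isCoh_tensorMod hO hA
  have hQ : Coh.IsCoh Q := isCoh_cokernel _ hO.1 hOA
  have hdisj := disjoint_support_cokernel_mulSection O hA σ
  refine ⟨hQ, dim_le_of_disjoint hX (QCohLib.isClosed_support hQ.2) hne hdisj, hdisj, ?_⟩
  have h := inum_additive k hl (shortExact_cokernel (mulSection O σ)) hO hOA hQ
  change inum k l (CohB1.tensorMod O A) = inum k l O + inum k l Q at h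
  rw [inum, h]
  ring

/-- On an integral scheme an intersection number is a difference of lower ones. -/
theorem inum_roof [IsIntegral X] {A : X.Modules} (hA : PicF.IsInvertible A) {l : List X.Modules} (hl : Inv l)
    (hX : topologicalKrullDim X ≤ ((l.length + 1 : ℕ) : WithBot ℕ∞)) :
    ∃ C₁ C₂ : X.Modules, Coh.IsCoh C₁ ∧ Coh.IsCoh C₂ ∧ topologicalKrullDim (CohB1.support C₁) ≤ (l.length : WithBot ℕ∞) ∧
      topologicalKrullDim (CohB1.support C₂) ≤ (l.length : WithBot ℕ∞) ∧
      ∀ l' : List X.Modules, Inv l' → inum k (A :: l') (Coh.structureModule X) = inum k l' C₂ - inum k l' C₁ := by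
  haveI := isNoetherian_of_proper (X := X) k
  obtain ⟨U, hU, ℓ, hℓ⟩ := exists_isBasis hA (genericPoint X)
  let O := Coh.structureModule X
  have hO : Coh.IsCoh O := isCoh_of_isInvertible (HilbPoly.isInvertible_structureModule X)
  have hinj : ∀ W : X.Opens, Function.Injective (res O (inf_le_left : W ⊓ U ≤ W)) := by
    intro W
    by_cases hW : (W : Set X).Nonempty
    · haveI : Nonempty W := hW.to_subtype
      haveI : Nonempty (W ⊓ U : X.Opens) :=
        ⟨⟨genericPoint X, (genericPoint_spec X).mem_open_set_iff W.2 |>.mpr (by simpa using hW), hU⟩⟩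
      exact map_injective_of_isIntegral X (homOfLE (inf_le_left : W ⊓ U ≤ W))
    · have : W = ⊥ := TopologicalSpace.Opens.ext (Set.not_nonempty_iff_eq_empty.mp hW)
      subst this
      intro a b _
      exact Subsingleton.elim (α := Γ(X, (⊥ : X.Opens))) _ _
  obtain ⟨K, f₁, f₂, hK, _, _, hd₁, hd₂⟩ := exists_roof_tensor hO hA hℓ hinj
  have hOA := isCoh_tensorMod hO hA
  have hC₁ := isCoh_cokernel f₁ hK.1 hO
  have hC₂ := isCoh_cokernel f₂ hK.1 hOA
  refine ⟨_, _, hC₁, hC₂, dim_le_of_disjoint hX (QCohLib.isClosed_support hC₁.2) ⟨_, hU⟩ hd₁,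
    dim_le_of_disjoint hX (QCohLib.isClosed_support hC₂.2) ⟨_, hU⟩ hd₂, fun l' hl' => ?_⟩
  have e₁ : inum k l' O = inum k l' K + inum k l' (cokernel f₁) :=
    inum_additive k hl' (shortExact_cokernel f₁) hK hO hC₁
  have e₂ : inum k l' (CohB1.tensorMod O A) = inum k l' K + inum k l' (cokernel f₂) :=
    inum_additive k hl' (shortExact_cokernel f₂) hK hOA hC₂
  rw [inum, e₁, e₂]
  ring

/-- Degree zero on every integral curve. -/
def DegZero (A : X.Modules) : Prop :=
  ∀ (W : Scheme.{u}) (j : W ⟶ X) [IsClosedImmersion j] [IsIntegral W], topologicalKrullDim W = 1 →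
    inumOn k j [A] = 0

/-- A module of degree zero on every curve has zero intersection numbers. -/
theorem inum_eq_zero_of_degZero : ∀ (m : ℕ) (X : Scheme.{u}) [X.Over (Spec (CommRingCat.of k))]
    [IsProper (X ↘ Spec (CommRingCat.of k))] (A : X.Modules), PicF.IsInvertible A → DegZero k A →
    ∀ (l : List X.Modules), Inv l → l.length = m → ∀ F : X.Modules, Coh.IsCoh F →
    topologicalKrullDim (CohB1.support F) ≤ ((m + 1 : ℕ) : WithBot ℕ∞) → inum k (A :: l) F = 0 := by
  intro m
  induction m with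
  | zero =>
    intro X _ _ A hA h0 l hl hlen F hF hd
    obtain rfl := List.length_eq_zero_iff.mp hlen
    exact inum_eq_zero k (hl.cons hA) hF hd fun W j _ _ _ hW => h0 W j (by simpa using hW)
  | succ m ih =>
    intro X _ _ A hA h0 l hl hlen F hF hd
    refine inum_eq_zero k (hl.cons hA) hF (by simpa [hlen] using hd) fun W j _ _ _ hW => ?_
    letI : W.Over (Spec (CommRingCat.of k)) := ⟨j ≫ (X ↘ Spec (CommRingCat.of k))⟩
    haveI : IsProper (W ↘ Spec (CommRingCat.of k)) :=
      inferInstanceAs (IsProper (j ≫ (X ↘ Spec (CommRingCat.of k))))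
    obtain ⟨B, l', rfl⟩ := List.exists_cons_of_length_eq_add_one hlen
    let jA := (Scheme.Modules.pullback j).obj
    have hA' : PicF.IsInvertible (jA A) := isInvertible_pullback j hA
    have hB' : PicF.IsInvertible (jA B) := isInvertible_pullback j hl.head
    have hl' : Inv (l'.map jA) := hl.tail.map_pullback j
    have hlen' : (l'.map jA).length = m := by simpa using hlen
    have h0' : DegZero k (jA A) := fun V i _ _ hV => by
      have := h0 V (i ≫ j) hV
      rwa [inumOn_comp k i j rfl] at this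
    have hWd : topologicalKrullDim W ≤ (((jA A :: l'.map jA).length + 1 : ℕ) : WithBot ℕ∞) := by
      rw [hW]
      simp only [List.length_cons, List.length_map, le_refl]
    obtain ⟨C₁, C₂, hC₁, hC₂, d₁, d₂, h⟩ := inum_roof k hB' (hl'.cons hA') hWd
    show inum k (jA A :: jA B :: l'.map jA) (Coh.structureModule W) = 0
    rw [inum_swap k hA' hB', h _ (hl'.cons hA'), ih W _ hA' h0' _ hl' hlen' C₁ hC₁ (by simpa [hlen'] using d₁),
      ih W _ hA' h0' _ hl' hlen' C₂ hC₂ (by simpa [hlen'] using d₂), sub_zero]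

end Groth.Agent.IntTh
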